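import Cfsg.Agent.Lib.CNCount.LinearChars
import Cfsg.Agent.Lib.CharCorr.Basic
import Cfsg.Agent.Lib.Characters.Ito
import Cfsg.Agent.Lib.Characters.LinearTwist

/-!
# Cosets of the derived subgroup which are single classes
-/

set_option autoImplicit false
set_option linter.unusedSectionVars false
set_option linter.style.haveILetI false

namespace CfsgLib.Antichain39

open Cfsg CfsgLib.Characters CfsgLib.CharCorr
open scoped ComplexConjugate commutatorElement

universe u

variable {G : Type u} [Group G] [Fintype G]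

theorem deg_eq_one_iff (χ : IrrCharacter G) :
    charDegree (χ : G → ℂ) = 1 ↔ (χ : G → ℂ) 1 = 1 := by
  rw [irr_one_eq_charDegree, Nat.cast_eq_one]

open scoped Classical in
/-- Column orthogonality, linear part. -/
theorem sum_linear (a b : G) :
    ∑ χ ∈ (Finset.univ : Finset (IrrCharacter G)).filter (fun χ : IrrCharacter G => charDegree (χ : G → ℂ) = 1),
      (χ : G → ℂ) a * conj ((χ : G → ℂ) b) =
      if a * b⁻¹ ∈ commutator G then ((commutator G).index : ℂ) else 0 := by
  rw [← CfsgLib.CNCount.sum_unitsHom (a * b⁻¹)]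
  refine (Finset.sum_bij (fun f _ => (⟨fun g => ((f : G →* ℂˣ) g : ℂ), isIrrCharacter_of_hom f⟩ :
    IrrCharacter G)) (fun f _ => ?_) (fun f _ f' _ h => ?_) (fun χ hχ => ?_) fun f _ => ?_).symm
  · rw [Finset.mem_filter]
    exact ⟨Finset.mem_univ _, LinearTwist.charDegree_eq_of_apply_one (by simp)⟩
  · exact MonoidHom.ext fun g => Units.ext (congrFun (congrArg Subtype.val h) g)
  · obtain ⟨f, hf⟩ := LinearTwist.exists_hom_of_charDegree_one (irr_isCharacter χ)
      (Finset.mem_filter.1 hχ).2
    exact ⟨f, Finset.mem_univ _, Subtype.ext hf.symm⟩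
  · show ((f (a * b⁻¹) : ℂˣ) : ℂ) = (f a : ℂ) * conj (f b : ℂ)
    rw [CfsgLib.CNCount.conj_unitsHom, map_mul, map_inv, Units.val_mul]

/-- A coset moved by a map preserving all nonlinear characters is one class. -/
theorem isConj_of_moved {g g' : G} (hg : g' * g⁻¹ ∉ commutator G)
    (hfix : ∀ χ : IrrCharacter G, charDegree (χ : G → ℂ) ≠ 1 → (χ : G → ℂ) g' = (χ : G → ℂ) g)
    {z : G} (hz : z ∈ commutator G) : IsConj g (g * z) := by
  classical
  by_contra hne
  have hnorm : (commutator G).Normal := inferInstance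
  have hgz : g * (g * z)⁻¹ ∈ commutator G := by
    have e : g * (g * z)⁻¹ = g * z⁻¹ * g⁻¹ := by group
    rw [e]
    exact hnorm.conj_mem _ (Subgroup.inv_mem _ hz) g
  have hg'z : g' * (g * z)⁻¹ ∉ commutator G := fun h => by
    have := (commutator G).mul_mem h ((commutator G).inv_mem hgz)
    rw [show g' * (g * z)⁻¹ * (g * (g * z)⁻¹)⁻¹ = g' * g⁻¹ by group] at this
    exact hg this
  have hne' : ¬ IsConj g' (g * z) := fun h => hg'z (by
    obtain ⟨y, hy⟩ := isConj_iff.1 h
    rw [← hy, show g' * (y * g' * y⁻¹)⁻¹ = ⁅g', y⁆ by rw [commutatorElement_def]; group]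
    exact Subgroup.commutator_mem_commutator (Subgroup.mem_top _) (Subgroup.mem_top _))
  have h1 := column_orth g (g * z)
  have h2 := column_orth g' (g * z)
  rw [if_neg hne, ← Finset.sum_filter_add_sum_filter_not Finset.univ
    (fun χ : IrrCharacter G => charDegree (χ : G → ℂ) = 1), sum_linear, if_pos hgz] at h1
  rw [if_neg hne', ← Finset.sum_filter_add_sum_filter_not Finset.univ
    (fun χ : IrrCharacter G => charDegree (χ : G → ℂ) = 1), sum_linear, if_neg hg'z, zero_add,
    Finset.sum_congr rfl (fun χ hχ => by rw [hfix χ (Finset.mem_filter.1 hχ).2])] at h2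
  rw [h2, add_zero, Nat.cast_eq_zero] at h1
  exact Subgroup.index_ne_zero_of_finite h1

/-- A coset where all nonlinear characters vanish is one class. -/
theorem isConj_of_vanish {g : G}
    (hvan : ∀ χ : IrrCharacter G, charDegree (χ : G → ℂ) ≠ 1 → (χ : G → ℂ) g = 0)
    {z : G} (hz : z ∈ commutator G) : IsConj g (g * z) := by
  classical
  by_contra hne
  have hnorm : (commutator G).Normal := inferInstance
  have hgz : g * (g * z)⁻¹ ∈ commutator G := by
    have e : g * (g * z)⁻¹ = g * z⁻¹ * g⁻¹ := by group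
    rw [e]
    exact hnorm.conj_mem _ (Subgroup.inv_mem _ hz) g
  have h1 := column_orth g (g * z)
  rw [if_neg hne, ← Finset.sum_filter_add_sum_filter_not Finset.univ
    (fun χ : IrrCharacter G => charDegree (χ : G → ℂ) = 1), sum_linear, if_pos hgz,
    Finset.sum_eq_zero (s := Finset.univ.filter _) (fun χ hχ => by
      rw [hvan χ (Finset.mem_filter.1 hχ).2, zero_mul]), add_zero, Nat.cast_eq_zero] at h1
  exact Subgroup.index_ne_zero_of_finite h1

/-- The centralizer then has the order of the abelian quotient. -/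
theorem card_centralizer_of_coset {g : G} (h : ∀ z ∈ commutator G, IsConj g (g * z)) :
    Nat.card (Subgroup.centralizer ({g} : Set G)) = (commutator G).index := by
  have hcl : Nat.card {x : G // IsConj g x} = Nat.card (commutator G) := by
    refine (Nat.card_congr (Equiv.ofBijective (fun z : commutator G =>
      (⟨g * z, h z z.2⟩ : {x : G // IsConj g x})) ⟨fun a b e => ?_, fun x => ?_⟩)).symm
    · exact Subtype.ext (mul_left_cancel (congrArg Subtype.val e))
    · obtain ⟨y, hy⟩ := isConj_iff.1 x.2
      refine ⟨⟨g⁻¹ * x, ?_⟩, Subtype.ext (mul_inv_cancel_left g (x : G))⟩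
      rw [← hy, show g⁻¹ * (y * g * y⁻¹) = ⁅g⁻¹, y⁆ by rw [commutatorElement_def]; group]
      exact Subgroup.commutator_mem_commutator (Subgroup.mem_top _) (Subgroup.mem_top _)
  have h1 := card_isConj_mul_card_centralizer g
  rw [hcl, ← (commutator G).card_mul_index] at h1
  exact Nat.eq_of_mul_eq_mul_left Nat.card_pos h1

/-- A centralizer of an element of order prime to the derived subgroup with that order is a
complement. -/
theorem complement_of_card {g : G} {p i : ℕ} [Fact p.Prime] (hg : g ^ p ^ i = 1)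
    (hcard : Nat.card (Subgroup.centralizer ({g} : Set G)) = (commutator G).index)
    (hp : ¬ p ∣ Nat.card (commutator G)) :
    commutator G ⊓ Subgroup.centralizer ({g} : Set G) = ⊥ ∧
      Subgroup.centralizer ({g} : Set G) ⊔ commutator G = ⊤ := by
  set M := commutator G with hM
  set C := Subgroup.centralizer ({g} : Set G) with hC
  have hMn : M.Normal := inferInstance
  have hzp : IsPGroup p (Subgroup.zpowers g) := by
    intro x
    refine ⟨i, Subtype.ext ?_⟩
    obtain ⟨j, hj⟩ := Subgroup.mem_zpowers_iff.1 x.2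
    rw [SubgroupClass.coe_pow, ← hj, ← zpow_natCast, ← zpow_mul, mul_comm, zpow_mul,
      zpow_natCast, hg, one_zpow, Subgroup.coe_one]
  have hsurj : ∀ a : G, ∃ c ∈ C, c * a⁻¹ ∈ M := by
    intro a
    let X := {x : G // x * a⁻¹ ∈ M}
    letI : MulAction (Subgroup.zpowers g) X :=
      { smul := fun z x => ⟨(z : G) * x * (z : G)⁻¹, by
          have h1 : ⁅(z : G), (x : G)⁆ ∈ M :=
            Subgroup.commutator_mem_commutator (Subgroup.mem_top _) (Subgroup.mem_top _)
          have := M.mul_mem h1 x.2
          rw [commutatorElement_def] at this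
          convert this using 1
          group⟩
        one_smul := fun x => Subtype.ext (show (1 : G) * x * (1 : G)⁻¹ = x by simp)
        mul_smul := fun z z' x => Subtype.ext (show ((z * z' : Subgroup.zpowers g) : G) * x *
            ((z * z' : Subgroup.zpowers g) : G)⁻¹ = z * (z' * x * (z' : G)⁻¹) * (z : G)⁻¹ by
          rw [Subgroup.coe_mul]; group) }
    have hX : ¬ p ∣ Nat.card X := by
      rwa [show Nat.card X = Nat.card M from Nat.card_congr
        ((Equiv.mulRight a⁻¹).subtypeEquiv fun x => Iff.rfl)]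
    obtain ⟨x, hx⟩ := hzp.nonempty_fixed_point_of_prime_not_dvd_card X hX
    have h1 := congrArg Subtype.val (hx ⟨g, Subgroup.mem_zpowers g⟩)
    change g * (x : G) * g⁻¹ = x at h1
    exact ⟨x, Subgroup.mem_centralizer_singleton_iff.2 (mul_inv_eq_iff_eq_mul.1 h1).symm, x.2⟩
  let f : C → G ⧸ M := fun c => (c : G)
  have hf : Function.Bijective f := by
    refine (Nat.bijective_iff_surjective_and_card f).2 ⟨fun x => ?_, hcard.trans M.index_eq_card⟩
    induction x using QuotientGroup.induction_on with
    | H a =>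
      obtain ⟨c, hc, hca⟩ := hsurj a
      refine ⟨⟨c, hc⟩, QuotientGroup.eq.2 ?_⟩
      show c⁻¹ * a ∈ M
      have h2 := hMn.conj_mem' _ (M.inv_mem hca) c
      rwa [show c⁻¹ * (c * a⁻¹)⁻¹ * c = c⁻¹ * a by group] at h2
  refine ⟨eq_bot_iff.2 ?_, eq_top_iff.2 fun a _ => ?_⟩
  · rintro x ⟨hxM, hxC⟩
    have : f ⟨x, hxC⟩ = f 1 := by
      show ((x : G) : G ⧸ M) = ((1 : G) : G ⧸ M)
      rw [(QuotientGroup.eq_one_iff x).2 hxM]; rfl
    exact congrArg Subtype.val (hf.1 this)
  · obtain ⟨c, hc, hca⟩ := hsurj a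
    rw [show a = (c * a⁻¹)⁻¹ * c by group, sup_comm]
    exact Subgroup.mul_mem_sup (M.inv_mem hca) hc

/-- Linear characters separate: an element whose character values are fixed by every twist. -/
theorem vanish_of_twist {θ : G → ℂ} (h : ∀ f : G →* ℂˣ, ∀ x, θ x * (f x : ℂ) = θ x) {x : G}
    (hx : x ∉ commutator G) : θ x = 0 := by
  obtain ⟨f, hf⟩ := CfsgLib.CNCount.exists_unitsHom_ne_one hx
  by_contra hne
  exact hf (Units.ext (mul_left_cancel₀ hne ((h f x).trans (mul_one _).symm)))

end CfsgLib.Antichain39
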