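import Mathlib.GroupTheory.OrderOfElement
import Mathlib.Algebra.Group.End
import Mathlib.Data.Int.GCD
import Mathlib.Data.Nat.Prime.Basic
import Mathlib.GroupTheory.Index
import Mathlib.RingTheory.Int.Basic
import Mathlib.Data.Nat.Factorization.Basic
import Mathlib.Tactic.LinearCombination
import Mathlib.Tactic.Linarith

/-!
# Counting the fixed points of a semilinear map

`H` is abelian and acts on `Ω`; `s` is `σ`-semilinear, maps every point into its orbit and has
`q`-th power in `H`. If orbits have length prime to `q` and point stabilisers are fixed by `σ`,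
then every orbit carries `|C_H(σ)|`-many fixed points of a translate of `s`, counted with
stabilisers.
-/

set_option autoImplicit false

namespace CfsgLib.Antichain39

/-- Fixed point count for a semilinear map. -/
theorem exists_card_fixed {H Ω : Type*} [CommGroup H] [Finite H] [Finite Ω]
    (ρ : H →* Equiv.Perm Ω) (σ : MulAut H) (s : Ω → Ω)
    (heq : ∀ a x, s (ρ a x) = ρ (σ a) (s x)) {q : ℕ} (hq : q.Prime)
    (hσq : ∀ a, (σ : H → H)^[q] a = a) (n₀ : H) (hsq : ∀ x, s^[q] x = ρ n₀ x)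
    (horb : ∀ x, ∃ a, s x = ρ a x) (hcop : ∀ x, ∃ n, ¬ q ∣ n ∧ ∀ a, ρ (a ^ n) x = x)
    (hstab : ∀ a x, ρ a x = x → σ a = a) :
    ∃ c : H, Nat.card Ω * Nat.card {a : H // σ a = a} =
      Nat.card H * Nat.card {x : Ω // ρ c (s x) = x} := by
  classical
  by_cases hΩ : IsEmpty Ω
  · exact ⟨1, by simp⟩
  rw [not_isEmpty_iff] at hΩ
  obtain ⟨x₀⟩ := hΩ
  have hρ : ∀ a b x, ρ (a * b) x = ρ a (ρ b x) := fun a b x => by rw [map_mul]; rfl
  have hρswap : ∀ a b x, ρ a (ρ b x) = ρ b (ρ a x) := fun a b x => by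
    rw [← hρ, mul_comm, hρ]
  obtain ⟨j, b, hbq, hcard⟩ := Nat.exists_eq_pow_mul_and_not_dvd
    (Nat.card_pos (α := H)).ne' q hq.ne_one
  -- `q`-elements act trivially
  have hqel : ∀ d : H, d ^ q ^ j = 1 → ∀ x, ρ d x = x := by
    intro d hd x
    obtain ⟨n, hn, hfix⟩ := hcop x
    have hco : (orderOf d).Coprime n :=
      Nat.Coprime.coprime_dvd_left (orderOf_dvd_of_pow_eq_one hd)
        (Nat.Coprime.pow_left j (hq.coprime_iff_not_dvd.2 hn))
    obtain ⟨m, hm⟩ := exists_pow_eq_self_of_coprime hco.symm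
    rw [← hm, ← pow_mul, mul_comm, pow_mul]
    exact hfix _
  have hab : ∀ a : H, (a ^ b) ^ q ^ j = 1 := fun a => by
    rw [← pow_mul, mul_comm, ← hcard, pow_card_eq_one']
  have hbx : ∀ (a : H) x (i : ℕ), ρ ((a ^ b) ^ i) x = x := fun a x i =>
    hqel _ (by rw [← pow_mul, mul_comm, pow_mul, hab, one_pow]) x
  -- a `q`-th root modulo the action
  obtain ⟨k, t, hkt⟩ : ∃ k t : ℕ, k * q = 1 + b * t := by
    have hco : Nat.Coprime q b := hq.coprime_iff_not_dvd.2 hbq
    rcases Nat.lt_or_ge 1 b with hb | hb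
    · obtain ⟨k, hk⟩ := Nat.exists_mul_mod_eq_one_of_coprime hco hb
      refine ⟨k, k * q / b, ?_⟩
      have := Nat.div_add_mod (k * q) b
      rw [mul_comm q k] at hk
      omega
    · have hb1 : b = 1 := by
        have : b ≠ 0 := fun h => hbq (h ▸ dvd_zero q)
        omega
      exact ⟨1, q - 1, by subst hb1; have := hq.one_lt; omega⟩
  have hroot : ∀ a x, ρ (a ^ (k * q)) x = ρ a x := fun a x => by
    rw [hkt, pow_add, pow_one, pow_mul, hρ, hbx]
  let c := (n₀ ^ k)⁻¹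
  set s' : Ω → Ω := fun x => ρ c (s x) with hs'
  have heq' : ∀ a x, s' (ρ a x) = ρ (σ a) (s' x) := fun a x => by
    simp only [hs', heq, hρswap c]
  -- fixed points in every orbit
  have key : ∀ x, ∃ W : H, s' (ρ W x) = ρ W x := by
    intro x
    obtain ⟨y, hy⟩ := horb x
    let P : ℕ → H := fun i => Nat.rec 1 (fun _ p => σ p * y) i
    have hP : ∀ i, s^[i] x = ρ (P i) x := by
      intro i
      induction i with
      | zero => simp [P]
      | succ i ih =>
        rw [Function.iterate_succ_apply', ih, heq, hy, ← hρ]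
    let W := ∏ i ∈ Finset.range q, P i ^ k
    have hW : σ W * y ^ (q * k) = W * P q ^ k := by
      have h1 : σ W * y ^ (q * k) = ∏ i ∈ Finset.range q, P (i + 1) ^ k := by
        have : ∀ i, P (i + 1) ^ k = σ (P i ^ k) * y ^ k := fun i => by
          show (σ (P i) * y) ^ k = _
          rw [mul_pow, map_pow]
        simp only [W, this, Finset.prod_mul_distrib, map_prod, Finset.prod_const,
          Finset.card_range, ← pow_mul, mul_comm q k]
      rw [h1, ← Finset.prod_range_succ, Finset.prod_range_succ', show P 0 = 1 from rfl, one_pow,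
        mul_one]
    refine ⟨W, ?_⟩
    have hPk : ρ (P q ^ k) x = ρ (n₀ ^ k) x := by
      have h0 : ∀ i : ℕ, ρ (P q ^ i) x = ρ (n₀ ^ i) x := by
        intro i
        induction i with
        | zero => simp
        | succ i ih =>
          rw [pow_succ', hρ, ih, hρswap, ← hP q, hsq, pow_succ, hρ]
      exact h0 k
    calc s' (ρ W x) = ρ c (ρ (σ W) (ρ y x)) := by rw [hs']; simp only [heq, hy]
      _ = ρ c (ρ (σ W) (ρ (y ^ (q * k)) x)) := by rw [mul_comm q k, hroot]
      _ = ρ c (ρ W (ρ (n₀ ^ k) x)) := by rw [← hρ (σ W), hW, hρ, hPk]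
      _ = ρ W x := by
        rw [hρswap c W, ← hρ c, show c * n₀ ^ k = 1 from inv_mul_cancel _, map_one]
        rfl
  -- `σ`-fixed elements are exactly those preserving a fixed point
  have huniq : ∀ x, s' x = x → ∀ a, s' (ρ a x) = ρ a x → σ a = a := by
    intro x hx a ha
    rw [heq', hx] at ha
    have hd : σ (σ a * a⁻¹) = σ a * a⁻¹ := hstab _ x (by
      rw [hρ, hρswap, ha, ← hρ, inv_mul_cancel, map_one]; rfl)
    set d := σ a * a⁻¹ with hddef
    have hσa : σ a = d * a := by rw [hddef, inv_mul_cancel_right]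
    have hit : ∀ i, (σ : H → H)^[i] a = d ^ i * a := by
      intro i
      induction i with
      | zero => simp
      | succ i ih =>
        rw [Function.iterate_succ_apply', ih, map_mul, map_pow, hd, hσa, ← mul_assoc, ← pow_succ]
    have hdq : d ^ q = 1 := by
      have := hit q
      rw [hσq] at this
      exact right_eq_mul.1 this
    have h1 : σ (a ^ (k * q)) = a ^ (k * q) := by
      rw [map_pow, hσa, mul_pow, mul_comm k q, pow_mul d, hdq, one_pow, one_mul]
    have h2 : σ ((a ^ b) ^ t) = (a ^ b) ^ t := hstab _ x₀ (hbx a x₀ t)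
    have h3 : a = a ^ (k * q) * ((a ^ b) ^ t)⁻¹ := by
      rw [hkt, pow_add, pow_one, pow_mul, mul_inv_cancel_right]
    rw [h3, map_mul, map_inv, h1, h2]
  choose W hW using key
  refine ⟨c, ?_⟩
  rw [← Nat.card_prod, ← Nat.card_prod]
  let z : Ω → Ω := fun x => ρ (W x) x
  refine Nat.card_eq_of_bijective
    (fun p : Ω × {a : H // σ a = a} =>
      ((W p.1)⁻¹ * (p.2 : H)⁻¹, (⟨ρ p.2 (z p.1), ?_⟩ : {x : Ω // ρ c (s x) = x}))) ⟨?_, ?_⟩
  · show s' (ρ p.2 (z p.1)) = _
    rw [heq', p.2.2, hW]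
  · rintro ⟨x, a, ha⟩ ⟨x', a', ha'⟩ h
    simp only [Prod.mk.injEq, Subtype.mk.injEq] at h
    obtain ⟨h1, h2⟩ := h
    have hx : x = x' := by
      have e : ∀ (y : Ω) (e : H), ρ ((W y)⁻¹ * e⁻¹) (ρ e (z y)) = y := fun y e => by
        show ρ _ (ρ e (ρ (W y) y)) = y
        rw [← hρ, ← hρ, inv_mul_cancel_right, inv_mul_cancel, map_one]
        rfl
      rw [← e x a, h1, h2, e x' a']
    subst hx
    exact Prod.ext rfl (Subtype.ext (inv_injective (mul_left_cancel h1)))
  · rintro ⟨a, y, hy⟩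
    set x := ρ a y with hxdef
    have hzy : z x = ρ (W x * a) y := (hρ _ _ _).symm
    have hfix : σ (W x * a) = W x * a := huniq y hy _ (hzy ▸ hW x)
    refine ⟨⟨x, ⟨(W x * a)⁻¹, by rw [map_inv, hfix]⟩⟩, Prod.ext ?_ (Subtype.ext ?_)⟩
    · show (W x)⁻¹ * ((W x * a)⁻¹)⁻¹ = a
      rw [inv_inv, inv_mul_cancel_left]
    · show ρ (W x * a)⁻¹ (z x) = y
      rw [hzy, ← hρ, inv_mul_cancel, map_one]
      rfl

/-- `p ^ n - 1 = k (p ^ l - 1)` with `k > 1` determines `n`. -/
theorem exponent_unique {p k n l n' l' : ℕ} (hp : p.Prime) (hk : 1 < k)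
    (h : (p : ℤ) ^ n - 1 = k * ((p : ℤ) ^ l - 1)) (h' : (p : ℤ) ^ n' - 1 = k * ((p : ℤ) ^ l' - 1))
    (hn : n ≠ 0) (hn' : n' ≠ 0) : n = n' := by
  have hp2 : (2 : ℤ) ≤ p := by exact_mod_cast hp.two_le
  have key : ∀ {n l : ℕ}, (p : ℤ) ^ n - 1 = k * ((p : ℤ) ^ l - 1) → n ≠ 0 →
      l ≠ 0 ∧ ∃ c : ℤ, (k : ℤ) - 1 = (p : ℤ) ^ l * c ∧ ¬ (p : ℤ) ∣ c := by
    intro n l h hn
    have hl : l ≠ 0 := by
      rintro rfl
      simp only [pow_zero, sub_self, mul_zero, sub_eq_zero] at h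
      exact absurd h (one_lt_pow₀ (by omega) hn).ne'
    have hlt : l < n := by
      by_contra hle
      push Not at hle
      have h1 : (p : ℤ) ^ n ≤ (p : ℤ) ^ l := pow_le_pow_right₀ (by omega) hle
      have h2 : (1 : ℤ) < (p : ℤ) ^ l := one_lt_pow₀ (by omega) hl
      have h3 : (2 : ℤ) ≤ k := by exact_mod_cast hk
      nlinarith
    refine ⟨hl, (k : ℤ) - (p : ℤ) ^ (n - l), ?_, fun hd => ?_⟩
    · have e : (p : ℤ) ^ n = (p : ℤ) ^ l * (p : ℤ) ^ (n - l) := by
        rw [← pow_add, Nat.add_sub_cancel' hlt.le]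
      linear_combination h - e
    · have hpk : (p : ℤ) ∣ k := (Int.dvd_iff_dvd_of_dvd_sub hd).2 (dvd_pow_self _ (by omega))
      have h1 : (p : ℤ) ∣ 1 := by
        have e1 : (p : ℤ) ∣ (p : ℤ) ^ n := dvd_pow_self _ hn
        have e2 : (p : ℤ) ∣ (p : ℤ) ^ n - 1 := h ▸ dvd_mul_of_dvd_left hpk _
        exact (dvd_sub_right e1).1 e2
      have := Int.le_of_dvd one_pos h1
      omega
  obtain ⟨hl, c, hc, hpc⟩ := key h hn
  obtain ⟨hl', c', hc', hpc'⟩ := key h' hn'
  have hll : l = l' := by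
    by_contra hne
    rcases Nat.lt_or_gt_of_ne hne with hlt | hlt
    · refine hpc ⟨(p : ℤ) ^ (l' - l - 1) * c', ?_⟩
      have hp0 : (p : ℤ) ^ l ≠ 0 := pow_ne_zero _ (by omega)
      refine mul_left_cancel₀ hp0 ?_
      rw [← hc, hc', ← mul_assoc (p : ℤ), ← pow_succ', ← mul_assoc, ← pow_add]
      congr 2
      omega
    · refine hpc' ⟨(p : ℤ) ^ (l - l' - 1) * c, ?_⟩
      have hp0 : (p : ℤ) ^ l' ≠ 0 := pow_ne_zero _ (by omega)
      refine mul_left_cancel₀ hp0 ?_
      rw [← hc', hc, ← mul_assoc (p : ℤ), ← pow_succ', ← mul_assoc, ← pow_add]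
      congr 2
      omega
  subst hll
  have : (p : ℤ) ^ n = (p : ℤ) ^ n' := by linarith
  exact Nat.pow_right_injective hp.two_le (by exact_mod_cast this)

end CfsgLib.Antichain39
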