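import Cfsg.Agent.Lib.Antichain39.Orbits

/-!
# Degrees over the linear characters of the derived subgroup
-/

set_option autoImplicit false
set_option linter.unusedSectionVars false
set_option linter.unusedFintypeInType false
set_option linter.style.haveILetI false

namespace CfsgLib.Antichain39

open Cfsg CfsgLib.Characters CfsgLib.CharCorr CfsgLib.Clifford
open scoped ComplexConjugate commutatorElement

universe u

variable {N : Type u} [Group N] [Fintype N]

theorem commutator_normal' : (commutator N).Normal := inferInstance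

/-- A linear character of `N′` as a function. -/
def linFun (f : commutator N →* ℂˣ) : commutator N → ℂ := fun n => (f n : ℂ)

/-- The inertia group of a linear character of the derived subgroup. -/
def linInertia (f : commutator N →* ℂˣ) : Subgroup N := inertia commutator_normal' (linFun f)

theorem mem_linInertia {f : commutator N →* ℂˣ} {g : N} :
    g ∈ linInertia f ↔ f.comp (conjHom commutator_normal' g) = f :=
  ⟨fun h => MonoidHom.ext fun n => Units.ext (mem_inertia.1 h n),
    fun h => mem_inertia.2 fun n => congrArg Units.val (DFunLike.congr_fun h n)⟩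

theorem commutator_le_inertia {θ : commutator N → ℂ}
    (hθ : IsClassFunction (commutator N) θ) : commutator N ≤ inertia commutator_normal' θ :=
  le_inertia commutator_normal' hθ

theorem commutator_le_linInertia (f : commutator N →* ℂˣ) : commutator N ≤ linInertia f :=
  commutator_le_inertia (isClassFunction_of_isCharacter (isCharacter_of_irr (isIrrCharacter_of_hom f)))

theorem hom_swap (f : commutator N →* ℂˣ) (a b : N) :
    f.comp (conjHom commutator_normal' (a * b)) = f.comp (conjHom commutator_normal' (b * a)) :=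
  MonoidHom.ext fun n => Units.ext (congrFun (conjChar_swap commutator_normal'
    (isClassFunction_of_isCharacter (isCharacter_of_irr (isIrrCharacter_of_hom f))) a b) n)

theorem comp_comp_conj (f : commutator N →* ℂˣ) (a b : N) :
    (f.comp (conjHom commutator_normal' a)).comp (conjHom commutator_normal' b) =
      f.comp (conjHom commutator_normal' (a * b)) :=
  MonoidHom.ext fun u => congrArg f (Subtype.ext (by simp [conjHom, mul_assoc]))

theorem le_linInertia_comp (f : commutator N →* ℂˣ) (s : N) :
    linInertia f ≤ linInertia (f.comp (conjHom commutator_normal' s)) := fun t ht => by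
  rw [mem_linInertia] at ht ⊢
  rw [comp_comp_conj, hom_swap, ← comp_comp_conj, ht]

namespace Split

variable {σ : MulAut N} {q r : ℕ} {H : Subgroup N} (hs : Split σ q r H)
include hs

theorem inf_le_top {I : Subgroup N} (hI : commutator N ≤ I) {x : N} (hx : x ∈ I) :
    ∃ y ∈ H ⊓ I, ∃ m ∈ commutator N, y * m = x := by
  obtain ⟨y, hy, m, hm, rfl⟩ :=
    Subgroup.mem_sup_of_normal_right.1 (show x ∈ H ⊔ commutator N by rw [hs.sup]; trivial)
  refine ⟨y, ⟨hy, ?_⟩, m, hm, rfl⟩
  simpa using I.mul_mem hx (I.inv_mem (hI hm))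

theorem linInertia_ne_top {f : commutator N →* ℂˣ} (hf : f ≠ 1) : linInertia f ≠ ⊤ := fun h => by
  obtain ⟨y, hy, hne, -⟩ := hs.exists_moved
  exact hf (hs.eq_one_of_fixed commutator_normal' le_rfl hy hne f fun u =>
    DFunLike.congr_fun (mem_linInertia.1 (h ▸ Subgroup.mem_top y)) u)

/-- Every nontrivial linear character of `N′` gives its orbit length as a degree. -/
theorem exists_degree_index {f : commutator N →* ℂˣ} (hf : f ≠ 1) :
    ∃ χ : IrrCharacter N, charDegree (χ : N → ℂ) = (linInertia f).index ∧
      charDegree (χ : N → ℂ) ≠ 1 := by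
  classical
  haveI : (commutator N).Normal := commutator_normal'
  obtain ⟨π, hπ, hπM⟩ := Palfy80.exists_retraction (commutator N) H hs.inf hs.sup
  haveI := normal_of_commutator_le (commutator_le_linInertia f)
  obtain ⟨χ₀, hχ₀⟩ := Palfy80.exists_ext_linear (commutator N) H π hs.inf hπ hπM f (linInertia f)
    rfl (commutator_le_linInertia f)
  obtain ⟨χ, hχ⟩ := Palfy80.exists_degree_over (commutator N) H π hs.inf hπ hπM
    ⟨linFun f, isIrrCharacter_of_hom f⟩ (linInertia f) rfl (commutator_le_linInertia f) χ₀ hχ₀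
    (linearIrr 1)
  have h1 : charDegree (linearIrr (1 : (linInertia f).subgroupOf H →* ℂˣ) :
      (linInertia f).subgroupOf H → ℂ) = 1 :=
    LinearTwist.charDegree_eq_of_apply_one (by simp [linearIrr])
  have h2 : charDegree (linFun f) = 1 :=
    LinearTwist.charDegree_eq_of_apply_one (by simp [linFun])
  have h3 : ((linInertia f).subgroupOf H).index = (linInertia f).index := by
    change (linInertia f).relIndex H = _
    rw [← Subgroup.relIndex_top_right, ← Subgroup.relIndex_sup_right (H := H) (K := linInertia f)]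
    congr 1
    exact top_le_iff.1 (hs.sup.ge.trans (sup_le_sup_left (commutator_le_linInertia f) _))
  change _ = _ * _ * charDegree (linFun f) at hχ
  rw [h1, h2, mul_one, mul_one, h3] at hχ
  exact ⟨χ, hχ, hχ ▸ fun e => hs.linInertia_ne_top hf (Subgroup.index_eq_one.1 e)⟩

theorem eq_of_le {f g : commutator N →* ℂˣ} (hf : f ≠ 1) (hg : g ≠ 1)
    (h : linInertia f ≤ linInertia g) : linInertia f = linInertia g := by
  obtain ⟨χ, hχ, hχ1⟩ := hs.exists_degree_index hf
  obtain ⟨ψ, hψ, hψ1⟩ := hs.exists_degree_index hg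
  have he := hs.hyp.anti ψ χ hψ1 hχ1 (by rw [hχ, hψ]; exact Subgroup.index_dvd_of_le h)
  rw [hχ, hψ] at he
  refine Subgroup.eq_of_le_of_card_ge h (le_of_eq ?_)
  exact Nat.eq_of_mul_eq_mul_right (Nat.pos_of_ne_zero Subgroup.index_ne_zero_of_finite)
    ((he ▸ (linInertia g).card_mul_index).trans (linInertia f).card_mul_index.symm)

/-- All nontrivial linear characters of `N′` have the same inertia group. -/
theorem linInertia_eq {f g : commutator N →* ℂˣ} (hf : f ≠ 1) (hg : g ≠ 1) :
    linInertia f = linInertia g := by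
  classical
  by_contra hne
  have hfg : f * g ≠ 1 := fun e => hne (by
    have hgf : g = f⁻¹ :=
      MonoidHom.ext fun n => eq_inv_of_mul_eq_one_right (DFunLike.congr_fun e n)
    refine le_antisymm ?_ ?_ <;> intro t ht <;> rw [mem_linInertia] at ht ⊢
    · rw [hgf, MonoidHom.inv_comp, ht]
    · rw [hgf, MonoidHom.inv_comp] at ht
      exact inv_injective ht)
  have key : ∀ s ∈ linInertia (f * g), s ∈ linInertia f ∧ s ∈ linInertia g := by
    intro s hs'
    rw [mem_linInertia, MonoidHom.mul_comp] at hs'
    set fs := f.comp (conjHom commutator_normal' s) with hfs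
    set gs := g.comp (conjHom commutator_normal' s) with hgs
    by_cases hw : fs * f⁻¹ = 1
    · have h1 : fs = f := mul_inv_eq_one.1 hw
      rw [h1, mul_right_inj] at hs'
      exact ⟨mem_linInertia.2 h1, mem_linInertia.2 hs'⟩
    · exfalso
      have hw' : fs * f⁻¹ = g * gs⁻¹ := MonoidHom.ext fun n => by
        have hn : fs n * gs n = f n * g n := DFunLike.congr_fun hs' n
        show fs n * (f n)⁻¹ = g n * (gs n)⁻¹
        rw [← div_eq_mul_inv, ← div_eq_mul_inv, div_eq_div_iff_mul_eq_mul, hn, mul_comm]
      have h1 : linInertia f ≤ linInertia (fs * f⁻¹) := fun t ht => by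
        have h2 := le_linInertia_comp f s ht
        rw [mem_linInertia] at h2 ht ⊢
        rw [MonoidHom.mul_comp, MonoidHom.inv_comp, h2, ht]
      have h2 : linInertia g ≤ linInertia (fs * f⁻¹) := fun t ht => by
        have h3 := le_linInertia_comp g s ht
        rw [hw']
        rw [mem_linInertia] at h3 ht ⊢
        rw [MonoidHom.mul_comp, MonoidHom.inv_comp, h3, ht]
      exact hne ((hs.eq_of_le hf hw h1).trans (hs.eq_of_le hg hw h2).symm)
  exact hne ((hs.eq_of_le hfg hf fun s h => (key s h).1).symm.trans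
    (hs.eq_of_le hfg hg fun s h => (key s h).2))

/-- The abelian case: all nonlinear degrees are the common orbit length. -/
theorem oneDegree_of_comm
    (hab : ∀ a ∈ commutator N, ∀ b ∈ commutator N, a * b = b * a) : OneDegree N := by
  classical
  suffices h : ∀ χ : IrrCharacter N, charDegree (χ : N → ℂ) ≠ 1 → ∀ f : commutator N →* ℂˣ,
      f ≠ 1 → charDegree (χ : N → ℂ) = (linInertia f).index by
    intro χ ψ hχ hψ
    haveI := Fintype.ofFinite (commutator N)
    by_cases hex : ∃ f : commutator N →* ℂˣ, f ≠ 1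
    · obtain ⟨f, hf⟩ := hex
      rw [h χ hχ f hf, h ψ hψ f hf]
    · exfalso
      push Not at hex
      refine hχ (LinearTwist.charDegree_eq_of_apply_one (n := 1) ?_)
      rw [Nat.cast_one]
      refine CharMonomial.degree_one_of_commutator χ.2 fun x y => ?_
      have hmem : x * y * (y * x)⁻¹ ∈ commutator N := by
        rw [show x * y * (y * x)⁻¹ = ⁅x, y⁆ by rw [commutatorElement_def, mul_inv_rev]; group]
        exact Subgroup.commutator_mem_commutator (Subgroup.mem_top _) (Subgroup.mem_top _)
      have hbot : (⟨_, hmem⟩ : commutator N) = 1 := by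
        by_contra hne
        obtain ⟨f, hf⟩ := Palfy80.exists_hom_ne (X := commutator N) (g := ⟨_, hmem⟩)
          (by rwa [Palfy80.commutator_eq_bot hab, Subgroup.mem_bot])
        exact hf (by rw [hex f]; rfl)
      rw [show x * y * (y * x)⁻¹ = 1 from congrArg Subtype.val hbot]
  intro χ hχ f hf
  haveI := Fintype.ofFinite (commutator N)
  obtain ⟨x, hx, hne⟩ : ∃ x ∈ commutator N, (χ : N → ℂ) x ≠ (χ : N → ℂ) 1 := by
    by_contra! hh
    refine hχ (LinearTwist.charDegree_eq_of_apply_one (n := 1) ?_)
    rw [Nat.cast_one]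
    refine CharMonomial.degree_one_of_commutator χ.2 fun x y => hh _ ?_
    rw [show x * y * (y * x)⁻¹ = ⁅x, y⁆ by rw [commutatorElement_def, mul_inv_rev]; group]
    exact Subgroup.commutator_mem_commutator (Subgroup.mem_top _) (Subgroup.mem_top _)
  obtain ⟨θ, hθ1, hθ⟩ := Structure81.RelDegree.exists_nontrivial_constituent ⟨x, hx, hne⟩
  haveI : IsMulCommutative (commutator N) :=
    ⟨⟨fun a b => Subtype.ext (hab a a.2 b b.2)⟩⟩
  obtain ⟨g, hg⟩ := LinearTwist.exists_hom_of_charDegree_one (irr_isCharacter θ)
    ((deg_eq_one_iff θ).2 (CharIto.degree_one_of_comm θ.2))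
  have hg1 : g ≠ 1 := fun e => hθ1 (by rw [hg, e]; rfl)
  obtain ⟨k, hk, -⟩ := Structure81.RelDegree.degree_data commutator_normal' le_rfl χ θ hθ
  have hI : inertia commutator_normal' (θ : commutator N → ℂ) = linInertia f := by
    rw [hs.linInertia_eq hf hg1, hg]; rfl
  have hd1 : (linInertia f).index ∣ charDegree (χ : N → ℂ) :=
    hk ▸ hI ▸ dvd_mul_of_dvd_left (dvd_mul_left _ _) _
  -- the inertia group is abelian
  have hcent : ∀ t ∈ H ⊓ linInertia f, ∀ m ∈ commutator N, t * m = m * t := by
    intro t ht m hm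
    by_contra hne
    have hmem : t * m * t⁻¹ * m⁻¹ ∈ commutator N :=
      Subgroup.mul_mem _ (commutator_normal'.conj_mem m hm t) (Subgroup.inv_mem _ hm)
    obtain ⟨μ, hμ⟩ := Palfy80.exists_hom_ne (X := commutator N) (g := ⟨_, hmem⟩) (by
      rw [Palfy80.commutator_eq_bot hab, Subgroup.mem_bot]
      intro e
      have e' : t * m * t⁻¹ * m⁻¹ = 1 := congrArg Subtype.val e
      exact hne (mul_inv_eq_iff_eq_mul.1 (mul_inv_eq_one.1 e')))
    have hμ1 : μ ≠ 1 := fun e => hμ (by rw [e]; rfl)
    have h2 := DFunLike.congr_fun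
      (mem_linInertia.1 (hs.linInertia_eq hf hμ1 ▸ ht.2 : t ∈ linInertia μ)) ⟨m, hm⟩
    apply hμ
    rw [show (⟨_, hmem⟩ : commutator N) =
      conjHom commutator_normal' t ⟨m, hm⟩ * (⟨m, hm⟩ : commutator N)⁻¹ from rfl, map_mul, map_inv]
    rw [MonoidHom.comp_apply] at h2
    rw [h2, mul_inv_cancel]
  have hIab : ∀ a ∈ linInertia f, ∀ b ∈ linInertia f, a * b = b * a := by
    intro a ha b hb
    obtain ⟨s, hs₁, m, hm, rfl⟩ := hs.inf_le_top (commutator_le_linInertia f) ha
    obtain ⟨t, ht₁, n, hn, rfl⟩ := hs.inf_le_top (commutator_le_linInertia f) hb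
    have c1 := hcent t ht₁ m hm
    have c2 := hcent s hs₁ n hn
    have c3 := hs.comm s hs₁.1 t ht₁.1
    have c4 := hab m hm n hn
    calc s * m * (t * n) = s * (m * t) * n := by group
      _ = s * t * (m * n) := by rw [← c1]; group
      _ = t * s * (n * m) := by rw [c3, c4]
      _ = t * (s * n) * m := by group
      _ = t * n * (s * m) := by rw [c2]; group
  haveI := normal_of_commutator_le (commutator_le_linInertia f)
  obtain ⟨d, hd, hdvd⟩ :=
    CharIto.degree_dvd_index_of_abelian_normal χ.2 (linInertia f) inferInstance hIab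
  rw [irr_one_eq_charDegree, Nat.cast_inj] at hd
  exact Nat.dvd_antisymm (hd ▸ hdvd) hd1

/-- A nonlinear character of `N′` has a larger inertia group than the linear ones. -/
theorem exists_not_mem [Fintype (commutator N)] {θ : IrrCharacter (commutator N)}
    (hθ : charDegree (θ : commutator N → ℂ) ≠ 1) {f : commutator N →* ℂˣ} (hf : f ≠ 1) :
    ∃ y ∈ inertia commutator_normal' (θ : commutator N → ℂ), y ∉ linInertia f := by
  classical
  by_contra! hle
  haveI : (commutator N).Normal := commutator_normal'
  obtain ⟨χ, hχ, -⟩ := ThreeDegrees.exists_above (commutator N) θ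
  obtain ⟨k, hk, -⟩ := Structure81.RelDegree.degree_data commutator_normal' le_rfl χ θ hχ
  obtain ⟨χ', hχ', hχ'1⟩ := hs.exists_degree_index hf
  obtain ⟨c, hc⟩ : (linInertia f).index ∣ (inertia commutator_normal' (θ : commutator N → ℂ)).index :=
    Subgroup.index_dvd_of_le hle
  have hθ0 := charDegree_irr_pos θ
  have hne : charDegree (χ : N → ℂ) ≠ 1 := fun e => by
    rw [hk] at e
    exact hθ (Nat.eq_one_of_mul_eq_one_left e)
  have he := hs.hyp.anti χ' χ hχ'1 hne (by
    rw [hk, hc, hχ']
    exact dvd_mul_of_dvd_left (dvd_mul_of_dvd_right (dvd_mul_right _ _) _) _)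
  rw [hk, hc, hχ'] at he
  have he' : (linInertia f).index * 1 =
      (linInertia f).index * (k * c * charDegree (θ : commutator N → ℂ)) := by
    rw [mul_one]; exact he.trans (by ring)
  exact hθ (Nat.eq_one_of_mul_eq_one_left
    (Nat.eq_of_mul_eq_mul_left (Nat.pos_of_ne_zero Subgroup.index_ne_zero_of_finite) he').symm)

/-- The nonlinear characters of `N′` vanish off its derived subgroup. -/
theorem vanish [Fintype (commutator N)] (θ : IrrCharacter (commutator N))
    (hθ : charDegree (θ : commutator N → ℂ) ≠ 1) {m : commutator N}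
    (hm : m ∉ commutator (commutator N)) : (θ : commutator N → ℂ) m = 0 := by
  classical
  refine vanish_of_twist (θ := (θ : commutator N → ℂ)) (fun lam => ?_) hm
  by_contra hlam
  push Not at hlam
  have hlam1 : lam ≠ 1 := fun e => by
    obtain ⟨x, hx⟩ := hlam
    exact hx (by simp [e])
  have hcl := irr_isClassFunction θ
  let D : N → (commutator N →* ℂˣ) → (commutator N →* ℂˣ) := fun y μ =>
    μ.comp (conjHom commutator_normal' y) * μ⁻¹
  let S : Set (commutator N →* ℂˣ) := {μ | ∀ x, (θ : commutator N → ℂ) x * (μ x : ℂ) = (θ : commutator N → ℂ) x}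
  have key : ∀ y ∈ inertia commutator_normal' (θ : commutator N → ℂ), y ∉ linInertia lam →
      ∀ μ, D y μ ∈ S → μ ∈ S := by
    intro y hyθ hy μ hμ
    have hinj : Function.Injective (D y) := by
      intro a b e
      by_contra hab
      have hab' : a * b⁻¹ ≠ 1 := fun h => hab (mul_inv_eq_one.1 h)
      refine hy (hs.linInertia_eq hab' hlam1 ▸ mem_linInertia.2 ?_)
      refine MonoidHom.ext fun n => ?_
      have hn : a (conjHom commutator_normal' y n) * (a n)⁻¹ =
          b (conjHom commutator_normal' y n) * (b n)⁻¹ := DFunLike.congr_fun e n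
      rw [← div_eq_mul_inv, ← div_eq_mul_inv, div_eq_div_iff_mul_eq_mul] at hn
      show a (conjHom commutator_normal' y n) * (b (conjHom commutator_normal' y n))⁻¹ =
        a n * (b n)⁻¹
      rw [← div_eq_mul_inv, ← div_eq_mul_inv, div_eq_div_iff_mul_eq_mul, hn, mul_comm]
    have hmaps : ∀ ν ∈ S, D y ν ∈ S := by
      intro ν hν x
      have h1 := hν (conjHom commutator_normal' y x)
      rw [show (θ : commutator N → ℂ) (conjHom commutator_normal' y x) = (θ : commutator N → ℂ) x
        from mem_inertia.1 hyθ x] at h1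
      show _ * (((ν (conjHom commutator_normal' y x) * (ν x)⁻¹ : ℂˣ)) : ℂ) = _
      rw [Units.val_mul, ← mul_assoc, h1]
      conv_lhs => rw [← hν x, mul_assoc, Units.mul_inv, mul_one]
    obtain ⟨⟨ν, hν⟩, e⟩ := Finite.surjective_of_injective
      (f := fun ν : S => (⟨D y ν, hmaps ν ν.2⟩ : S))
      (fun a b h => Subtype.ext (hinj (congrArg Subtype.val h))) ⟨D y μ, hμ⟩
    exact hinj (congrArg Subtype.val e) ▸ hν
  obtain ⟨y, hyθ, hy⟩ := hs.exists_not_mem hθ hlam1
  set θ' : IrrCharacter (commutator N) :=
    ⟨_, LinearTwist.isIrr_mul_hom θ.2 lam⟩ with hθ'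
  have hθ'1 : charDegree (θ' : commutator N → ℂ) ≠ 1 := by
    rw [show charDegree (θ' : commutator N → ℂ) = charDegree (θ : commutator N → ℂ) from
      LinearTwist.charDegree_eq_of_apply_one (by
        show (θ : commutator N → ℂ) 1 * (lam 1 : ℂ) = _
        rw [map_one, Units.val_one, mul_one, irr_one_eq_charDegree])]
    exact hθ
  obtain ⟨y', hy'θ, hy'⟩ := hs.exists_not_mem hθ'1 hlam1
  -- `θ^{y'} = θ ν`
  set ν := lam * (lam.comp (conjHom commutator_normal' y'))⁻¹ with hν
  have h1 : ∀ x, (θ : commutator N → ℂ) (conjHom commutator_normal' y' x) =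
      (θ : commutator N → ℂ) x * (ν x : ℂ) := by
    intro x
    have h : (θ : commutator N → ℂ) (conjHom commutator_normal' y' x) *
        (lam (conjHom commutator_normal' y' x) : ℂ) = (θ : commutator N → ℂ) x * (lam x : ℂ) :=
      mem_inertia.1 hy'θ x
    rw [hν, MonoidHom.mul_apply, MonoidHom.inv_apply, MonoidHom.comp_apply, Units.val_mul,
      ← mul_assoc, ← h, mul_assoc, Units.mul_inv, mul_one]
  have hνS : ν ∈ S := by
    refine key y hyθ hy ν fun x => ?_
    have a1 : (θ : commutator N → ℂ) (conjHom commutator_normal' y'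
        (conjHom commutator_normal' y x)) =
        (θ : commutator N → ℂ) (conjHom commutator_normal' y' x) := by
      have e1 := congrFun (conjChar_swap commutator_normal' hcl y y') x
      have e2 : conjChar commutator_normal' (θ : commutator N → ℂ) (y * y') x =
          (θ : commutator N → ℂ) (conjHom commutator_normal' y' x) := by
        rw [← conjChar_mul]
        exact mem_inertia.1 hyθ (conjHom commutator_normal' y' x)
      rw [← e2, e1, ← conjChar_mul]
      rfl
    rw [h1, h1, show (θ : commutator N → ℂ) (conjHom commutator_normal' y x) =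
      (θ : commutator N → ℂ) x from mem_inertia.1 hyθ x] at a1
    show _ * (((ν (conjHom commutator_normal' y x) * (ν x)⁻¹ : ℂˣ)) : ℂ) = _
    rw [Units.val_mul, ← mul_assoc, a1, mul_assoc, Units.mul_inv, mul_one]
  have hy'θ' : y' ∈ inertia commutator_normal' (θ : commutator N → ℂ) := mem_inertia.2 fun x =>
    (h1 x).trans (hνS x)
  obtain ⟨x, hx⟩ := hlam
  refine hx (key y' hy'θ' hy' lam (fun x => ?_) x)
  have := hνS x
  rw [hν] at this
  show _ * (((lam (conjHom commutator_normal' y' x) * (lam x)⁻¹ : ℂˣ)) : ℂ) = _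
  conv_lhs => rw [← this]
  simp [mul_assoc, mul_comm, mul_left_comm]

end Split

end CfsgLib.Antichain39
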