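import Cfsg.Agent.Lib.Antichain39.Main
import Cfsg.Agent.Lib.Antichain39.Frobenius
import Mathlib.Combinatorics.SimpleGraph.Connectivity.Connected

/-!
# An antichain of degrees with disconnected degree graph
-/

set_option autoImplicit false
set_option linter.unusedSectionVars false
set_option linter.unusedFintypeInType false
set_option linter.style.haveILetI false

namespace CfsgLib.Antichain39

open Cfsg CfsgLib.Characters CfsgLib.CharCorr
open scoped ComplexConjugate commutatorElement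

universe u

variable {G : Type u} [Group G] [Fintype G]

theorem reach_of_dvd {u v : degreePrimes G} {d : ℕ} (hd : d ∈ charDegrees G) (hu : (u : ℕ) ∣ d)
    (hv : (v : ℕ) ∣ d) : ((degreeGraph G).induce (degreePrimes G)).Reachable u v := by
  by_cases h : u = v
  · exact h ▸ SimpleGraph.Reachable.refl u
  · refine SimpleGraph.Adj.reachable ?_
    show (degreeGraph G).Adj (u : ℕ) (v : ℕ)
    exact ⟨fun e => h (Subtype.ext e), u.2.1, v.2.1, d, hd,
      Nat.Coprime.mul_dvd_of_dvd_of_dvd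
        ((Nat.coprime_primes u.2.1 v.2.1).2 fun e => h (Subtype.ext e)) hu hv⟩

theorem preconnected_of_common {p : ℕ} (hp : p.Prime)
    (h : ∀ d ∈ charDegrees G, d ≠ 1 → p ∣ d) :
    ((degreeGraph G).induce (degreePrimes G)).Preconnected := by
  intro u v
  obtain ⟨hu, d, hd, hud⟩ := u.2
  obtain ⟨hv, e, he, hve⟩ := v.2
  have hpd := h d hd fun e => hu.ne_one (Nat.dvd_one.1 (e ▸ hud))
  have hpe := h e he fun e' => hv.ne_one (Nat.dvd_one.1 (e' ▸ hve))
  exact (reach_of_dvd (v := ⟨p, hp, d, hd, hpd⟩) hd hud hpd).trans (reach_of_dvd he hpe hve)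

theorem preconnected_of_linked {f r : ℕ} (hr : r.Prime) (hf : f ∈ charDegrees G)
    (hcov : ∀ d ∈ charDegrees G, d ∣ f ∨ r ∣ d)
    (hlink : (∀ d ∈ charDegrees G, ¬ r ∣ d) ∨
      ∃ d ∈ charDegrees G, r ∣ d ∧ ¬ d.Coprime f) :
    ((degreeGraph G).induce (degreePrimes G)).Preconnected := by
  rcases hlink with h | ⟨d₀, hd₀, hrd, hnc⟩
  · intro u v
    obtain ⟨-, d, hd, hud⟩ := u.2
    obtain ⟨-, e, he, hve⟩ := v.2
    exact reach_of_dvd hf (hud.trans ((hcov d hd).resolve_right (h d hd)))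
      (hve.trans ((hcov e he).resolve_right (h e he)))
  · obtain ⟨p, hp, hpd, hpf⟩ := Nat.Prime.not_coprime_iff_dvd.1 hnc
    suffices key : ∀ u : degreePrimes G,
        ((degreeGraph G).induce (degreePrimes G)).Reachable u ⟨p, hp, f, hf, hpf⟩ from
      fun u v => (key u).trans (key v).symm
    intro u
    obtain ⟨-, d, hd, hud⟩ := u.2
    rcases hcov d hd with h | h
    · exact reach_of_dvd hf (hud.trans h) hpf
    · exact (reach_of_dvd (v := ⟨r, hr, d, hd, h⟩) hd hud h).trans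
        (reach_of_dvd hd₀ hrd hpd)

/-- A `p`-group quotient with a nonlinear character forces a common prime. -/
theorem dvd_of_pgroup_quot (hanti : ∀ a ∈ charDegrees G, ∀ b ∈ charDegrees G,
      a ≠ 1 → b ≠ 1 → a ∣ b → a = b)
    (p : ℕ) (hp : p.Prime) (K : Subgroup G) [K.Normal] (hK : IsPGroup p (G ⧸ K))
    (η : IrrCharacter (G ⧸ K)) (hη : charDegree (η : G ⧸ K → ℂ) ≠ 1) :
    ∀ d ∈ charDegrees G, d ≠ 1 → p ∣ d := by
  classical
  rintro _ ⟨χ, rfl⟩ hχ1
  by_contra hpd
  haveI := Fact.mk hp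
  haveI := Fintype.ofFinite K
  obtain ⟨a, ha⟩ := IsPGroup.iff_card.1 hK
  rw [← Subgroup.index_eq_card] at ha
  have hres := ThreeDegrees.res_irr_of_coprime K χ
    (ha ▸ Nat.Coprime.pow_right a (hp.coprime_iff_not_dvd.2 hpd).symm)
  have hinv : ∀ (g : G) (x : K), (χ : G → ℂ) (g * x * g⁻¹) = (χ : G → ℂ) x :=
    fun g x => irr_isClassFunction χ (x : G) g
  have h1 : IsIrrCharacter K ((fun _ : K => (1 : ℂ)) * fun x : K => (χ : G → ℂ) x) := by
    rw [show ((fun _ : K => (1 : ℂ)) * fun x : K => (χ : G → ℂ) x) = fun x : K => (χ : G → ℂ) x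
      from funext fun x => one_mul _]
    exact hres
  have hbij := Cfsg.Agent.S0856.result K (fun _ : K => (1 : ℂ)) (fun x : K => (χ : G → ℂ) x)
    isIrrCharacter_one hres (fun _ _ => rfl) hinv h1 (χ : G → ℂ) χ.2 (fun _ => rfl)
  set β := Chars17.infl K η with hβ
  have hmem : (β : G → ℂ) ∈ {β : G → ℂ | IsIrrCharacter G β ∧
      classInner (indFun K fun _ : K => (1 : ℂ)) β ≠ 0} := by
    refine ⟨β.2, ?_⟩
    rw [Induction.classInner_indFun K _ (irr_isClassFunction β)]
    have : (fun x : K => (β : G → ℂ) x) =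
        (charDegree (η : G ⧸ K → ℂ) : ℂ) • fun _ : K => (1 : ℂ) := by
      funext x
      rw [hβ, Chars17.infl_apply, (QuotientGroup.eq_one_iff (x : G)).2 x.2, irr_one_eq_charDegree]
      simp
    rw [this, classInner_smul_right, classInner_irr_self (isIrrCharacter_one (G := K))]
    simpa using (charDegree_irr_pos η).ne'
  have hprod := (hbij.mapsTo hmem).1
  have hd : charDegree ((β : G → ℂ) * (χ : G → ℂ)) =
      charDegree (η : G ⧸ K → ℂ) * charDegree (χ : G → ℂ) :=
    LinearTwist.charDegree_eq_of_apply_one (by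
      rw [Pi.mul_apply, irr_one_eq_charDegree, irr_one_eq_charDegree, hβ, ThreeDegrees.infl_degree,
        Nat.cast_mul])
  have he := hanti (charDegree (η : G ⧸ K → ℂ)) ⟨β, hβ ▸ ThreeDegrees.infl_degree K η⟩ _
    ⟨⟨_, hprod⟩, hd⟩ hη (fun e => hη (Nat.eq_one_of_mul_eq_one_right e)) (dvd_mul_right _ _)
  exact hχ1 (Nat.eq_of_mul_eq_mul_left (charDegree_irr_pos η) ((mul_one _).trans he)).symm

/-- **An antichain with disconnected graph has three degrees.** -/
theorem card_charDegrees_of_not_preconnected [Group.IsSolvable G]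
    (hnd : ∀ a ∈ charDegrees G, ∀ b ∈ charDegrees G, 1 < a → a < b → ¬ a ∣ b)
    (hcon : ¬ ((degreeGraph G).induce (degreePrimes G)).Preconnected) :
    Nat.card (charDegrees G) = 3 := by
  classical
  have hpos : ∀ a ∈ charDegrees G, 0 < a := by rintro _ ⟨χ, rfl⟩; exact charDegree_irr_pos χ
  have hanti : ∀ a ∈ charDegrees G, ∀ b ∈ charDegrees G, a ≠ 1 → b ≠ 1 → a ∣ b → a = b := by
    intro a ha b hb ha1 _ hab
    by_contra hne
    have := Nat.le_of_dvd (hpos b hb) hab
    have := hpos a ha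
    exact hnd a ha b hb (by omega) (by omega) hab
  have hG : commutator G ≠ ⊥ := by
    intro e
    refine hcon fun u => absurd u.2 ?_
    rintro ⟨hu, _, ⟨χ, rfl⟩, hud⟩
    refine hu.ne_one (Nat.dvd_one.1 ?_)
    have h1 : charDegree (χ : G → ℂ) = 1 := by
      refine LinearTwist.charDegree_eq_of_apply_one (n := 1) ?_
      rw [Nat.cast_one]
      refine CharMonomial.degree_one_of_commutator χ.2 fun x y => ?_
      rw [show x * y * (y * x)⁻¹ = 1 from Subgroup.mem_bot.1 (e.le (by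
        rw [show x * y * (y * x)⁻¹ = ⁅x, y⁆ by rw [commutatorElement_def, mul_inv_rev]; group]
        exact Subgroup.commutator_mem_commutator (Subgroup.mem_top x) (Subgroup.mem_top y)))]
    rwa [h1] at hud
  obtain ⟨K, ⟨hKn, hKna⟩, hmax⟩ := Set.Finite.exists_maximal
    (Set.toFinite {K : Subgroup G | K.Normal ∧ ¬ commutator G ≤ K})
    ⟨⊥, inferInstance, fun h => hG (le_bot_iff.1 h)⟩
  haveI := hKn
  set X := G ⧸ K
  haveI : Group.IsSolvable X :=
    solvable_of_surjective (f := QuotientGroup.mk' K) (QuotientGroup.mk'_surjective K)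
  set π := QuotientGroup.mk' K with hπ
  have hsurj : Function.Surjective π := QuotientGroup.mk'_surjective _
  have hker : π.ker = K := QuotientGroup.ker_mk' K
  have hcomm : (commutator G).map π = commutator X := by
    rw [commutator_def, commutator_def, Subgroup.map_commutator,
      Subgroup.map_top_of_surjective π hsurj]
  have hna : commutator X ≠ ⊥ := by
    rw [← hcomm, Ne, Subgroup.map_eq_bot_iff, hker]
    exact hKna
  have hmin : ∀ M : Subgroup X, M.Normal → M ≠ ⊥ → commutator X ≤ M := by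
    intro M hM hM1
    rw [← hcomm, Subgroup.map_le_iff_le_comap]
    by_contra hle
    haveI := hM
    have hKM : K ≤ M.comap π := fun x hx => by
      show π x ∈ M
      rw [show π x = 1 from (QuotientGroup.eq_one_iff x).2 hx]
      exact M.one_mem
    have := hmax (y := M.comap π) ⟨inferInstance, hle⟩ hKM
    refine hM1 ?_
    rw [← Subgroup.map_comap_eq_self_of_surjective hsurj M, le_antisymm this hKM,
      Subgroup.map_eq_bot_iff, hker]
  rcases ThreeDegrees.pgroup_or_free hna hmin with ⟨p, hp, hpX⟩ | hfree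
  · obtain ⟨η, hη⟩ : ∃ η : IrrCharacter X, charDegree (η : X → ℂ) ≠ 1 := by
      by_contra h
      push Not at h
      exact hna (ThreeDegrees.commutator_eq_bot_of_linear h)
    exact absurd (preconnected_of_common hp (dvd_of_pgroup_quot hanti p hp K hpX η hη)) hcon
  set N : Subgroup G := (commutator X).comap π with hN
  haveI := Fintype.ofFinite N
  haveI hNn : N.Normal := inferInstance
  have hKN : K ≤ N := fun x hx => by
    show π x ∈ commutator X
    rw [show π x = 1 from (QuotientGroup.eq_one_iff x).2 hx]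
    exact Subgroup.one_mem _
  have habN : commutator N ≤ K.subgroupOf N := by
    rw [commutator_def, Subgroup.commutator_le]
    intro x _ y _
    show ((⁅x, y⁆ : N) : G) ∈ K
    rw [← QuotientGroup.eq_one_iff]
    show π ⁅(x : G), (y : G)⁆ = 1
    rw [map_commutatorElement]
    exact commutatorElement_eq_one_iff_mul_comm.2
      (ThreeDegrees.comm_commutator hmin _ x.2 _ y.2)
  have hNt : N ≠ ⊤ := fun h => by
    have hX : commutator X = ⊤ := by
      rw [← Subgroup.map_comap_eq_self_of_surjective hsurj (commutator X), ← hN, h,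
        Subgroup.map_top_of_surjective π hsurj]
    obtain ⟨d, hd⟩ := Group.IsSolvable.solvable (G := X)
    have hall : ∀ i, derivedSeries X i = ⊤ := fun i => by
      induction i with
      | zero => rfl
      | succ i ih => rw [derivedSeries_succ, ih, ← commutator_def, hX]
    exact hna (le_bot_iff.1 (le_top.trans (le_of_eq ((hall d).symm.trans hd))))
  have hKN' : K ≠ N := fun h => hna (by
    rw [← Subgroup.map_comap_eq_self_of_surjective hsurj (commutator X), ← hN, ← h,
      Subgroup.map_eq_bot_iff, hker])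
  have hfree' : ∀ x ∉ N, ∀ v ∈ N, x * v * x⁻¹ * v⁻¹ ∈ K → v ∈ K := fun x hx v hv h => by
    rw [← QuotientGroup.eq_one_iff]
    refine hfree (π x) hx (π v) hv (commutatorElement_eq_one_iff_mul_comm.1 ?_)
    rw [← map_commutatorElement]
    exact (QuotientGroup.eq_one_iff _).2 (by rwa [commutatorElement_def])
  obtain ⟨hfcd, hfd⟩ := free_degrees K N hKN habN hNt hKN' hfree'
  have hf1 : N.index ≠ 1 := fun e => hNt (Subgroup.index_eq_one.1 e)
  -- the kernel modulo `K` has prime exponent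
  haveI : Nontrivial (commutator X) := (Subgroup.nontrivial_iff_ne_bot _).2 hna
  obtain ⟨r, hr, hrV⟩ := Nat.exists_prime_and_dvd (n := Nat.card (commutator X))
    (Finite.one_lt_card (α := commutator X)).ne'
  haveI := Fact.mk hr
  have hexp : ∀ v ∈ commutator X, v ^ r = 1 := by
    have hab := ThreeDegrees.comm_commutator hmin
    let S : Subgroup X :=
      { carrier := {x | x ∈ commutator X ∧ x ^ r = 1}
        one_mem' := ⟨Subgroup.one_mem _, one_pow r⟩
        mul_mem' := fun {a b} ha hb => ⟨Subgroup.mul_mem _ ha.1 hb.1, by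
          rw [Commute.mul_pow (hab a ha.1 b hb.1), ha.2, hb.2, one_mul]⟩
        inv_mem' := fun {a} ha => ⟨Subgroup.inv_mem _ ha.1, by rw [inv_pow, ha.2, inv_one]⟩ }
    obtain ⟨v₀, hv₀⟩ := exists_prime_orderOf_dvd_card' r hrV
    have hS := hmin S ⟨fun x hx g => ⟨Subgroup.Normal.conj_mem inferInstance x hx.1 g, by
        rw [conj_pow, hx.2, mul_one, mul_inv_cancel]⟩⟩ fun e => by
      have h1 : (v₀ : X) ∈ S := ⟨v₀.2, by
        rw [← Subgroup.coe_pow, ← hv₀, pow_orderOf_eq_one, Subgroup.coe_one]⟩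
      rw [e, Subgroup.mem_bot] at h1
      rw [show v₀ = 1 from Subtype.ext h1, orderOf_one] at hv₀
      exact hr.one_lt.ne hv₀
    exact fun v hv => (hS hv).2
  have hexp' : ∀ v : N, v ^ r ∈ K.subgroupOf N := fun v => by
    rw [Subgroup.mem_subgroupOf, Subgroup.coe_pow, ← QuotientGroup.eq_one_iff]
    exact hexp _ v.2
  obtain ⟨c, hc⟩ : ∃ c, (K.subgroupOf N).index = r ^ c := by
    rw [Subgroup.index_eq_card]
    exact IsPGroup.iff_card.1 fun x => by
      induction x using QuotientGroup.induction_on with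
      | H m =>
        refine ⟨1, ?_⟩
        rw [pow_one, ← QuotientGroup.mk_pow, QuotientGroup.eq_one_iff]
        exact hexp' m
  have hrψ : ∀ ψ : IrrCharacter N, charDegree (ψ : N → ℂ) ≠ 1 →
      r ∣ charDegree (ψ : N → ℂ) := by
    intro ψ hψ
    by_contra hrd
    have hmem := hfd ψ (hc ▸ Nat.Coprime.pow_right c (hr.coprime_iff_not_dvd.2 hrd).symm)
    have he := hanti _ hfcd _ hmem hf1 (fun e => hf1 (Nat.eq_one_of_mul_eq_one_right e))
      (dvd_mul_right _ _)
    exact hψ (Nat.eq_of_mul_eq_mul_left (hpos _ hfcd) ((mul_one _).trans he)).symm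
  have hbelow : ∀ χ : IrrCharacter G, ∃ (θ : IrrCharacter N) (k : ℕ), k ∣ N.index ∧
      charDegree (χ : G → ℂ) = k * charDegree (θ : N → ℂ) := fun χ => by
    obtain ⟨θ, -, k, hk, hkd⟩ := ThreeDegrees.exists_below N χ
    exact ⟨θ, k, hkd, hk⟩
  have hcov : ∀ d ∈ charDegrees G, d ∣ N.index ∨ r ∣ d := by
    rintro _ ⟨χ, rfl⟩
    obtain ⟨θ, k, hkd, hk⟩ := hbelow χ
    by_cases hθ : charDegree (θ : N → ℂ) = 1
    · exact Or.inl (by rwa [hk, hθ, mul_one])
    · exact Or.inr (hk ▸ (hrψ θ hθ).mul_left k)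
  obtain ⟨⟨d₁, hd₁, hrd₁⟩, hrf⟩ : (∃ d ∈ charDegrees G, r ∣ d) ∧
      ∀ d ∈ charDegrees G, r ∣ d → d.Coprime N.index := by
    by_contra h
    refine hcon (preconnected_of_linked hr hfcd hcov ?_)
    rw [not_and_or] at h
    push Not at h
    exact h
  have hext : ∀ ψ : IrrCharacter N, charDegree (ψ : N → ℂ) ≠ 1 →
      charDegree (ψ : N → ℂ) ∈ charDegrees G ∧ (charDegree (ψ : N → ℂ)).Coprime N.index ∧
        ∀ (g : G) (n : N), (ψ : N → ℂ) ⟨g * n * g⁻¹, hNn.conj_mem n n.2 g⟩ =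
          (ψ : N → ℂ) n := by
    intro ψ hψ
    obtain ⟨χ, hχ, k, hk, hkd⟩ := ThreeDegrees.exists_above N ψ
    have hco := hrf _ ⟨χ, rfl⟩ (hk ▸ (hrψ ψ hψ).mul_left k)
    have hk1 : k = 1 := Nat.eq_one_of_dvd_coprimes hco (hk ▸ dvd_mul_right k _) hkd
    rw [hk1, one_mul] at hk
    have hres := ThreeDegrees.res_irr_of_coprime N χ hco
    have heq : (fun x : N => (χ : G → ℂ) x) = (ψ : N → ℂ) :=
      by_contra fun hne => hχ (classInner_irr_ne hres ψ.2 hne)
    refine ⟨⟨χ, hk⟩, hk ▸ hco, fun g n => ?_⟩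
    rw [← heq]
    exact irr_isClassFunction χ (n : G) g
  -- the automorphism
  obtain ⟨q, hq, hqf⟩ := Nat.exists_prime_and_dvd hf1
  haveI := Fact.mk hq
  obtain ⟨y, hy⟩ := exists_prime_orderOf_dvd_card' (G := G ⧸ N) q (by rwa [← Subgroup.index_eq_card])
  obtain ⟨x, rfl⟩ := QuotientGroup.mk'_surjective N y
  have hxN : x ∉ N := fun h => by
    rw [show QuotientGroup.mk' N x = 1 from (QuotientGroup.eq_one_iff x).2 h, orderOf_one] at hy
    exact hq.one_lt.ne hy
  have hxq : x ^ q ∈ N := by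
    rw [← QuotientGroup.eq_one_iff]
    show QuotientGroup.mk' N (x ^ q) = 1
    rw [map_pow, ← hy, pow_orderOf_eq_one]
  have hne : q ≠ r := fun e =>
    hq.one_lt.ne' (Nat.eq_one_of_dvd_coprimes (hrf d₁ hd₁ hrd₁) (e ▸ hrd₁) hqf)
  obtain ⟨v, hvN, hvK⟩ : ∃ v ∈ N, v ∉ K := by
    by_contra! h
    exact hKN' (le_antisymm hKN h)
  obtain ⟨a, b, hrb, hab⟩ :=
    Nat.exists_eq_pow_mul_and_not_dvd (orderOf_pos (⟨v, hvN⟩ : N)).ne' r hr.ne_one
  have hhK : (⟨v, hvN⟩ : N) ^ b ∉ K.subgroupOf N := fun h => by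
    refine hvK (show (⟨v, hvN⟩ : N) ∈ K.subgroupOf N from (QuotientGroup.eq_one_iff _).1 ?_)
    rw [← orderOf_eq_one_iff]
    refine Nat.eq_one_of_dvd_coprimes (hr.coprime_iff_not_dvd.2 hrb)
      (orderOf_dvd_of_pow_eq_one ?_) (orderOf_dvd_of_pow_eq_one ?_)
    · rw [← QuotientGroup.mk_pow, QuotientGroup.eq_one_iff]; exact hexp' _
    · rw [← QuotientGroup.mk_pow, QuotientGroup.eq_one_iff]; exact h
  have hh : Hyp (MulAut.conjNormal (H := N) x) q r := by
    refine ⟨hq, hr, hne, fun χ hχ g => ?_, fun χ ψ hχ hψ h => ?_, hrψ, fun χ hχ h => ?_,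
      ⟨⟨x ^ q, hxq⟩, ?_⟩, ⟨⟨v, hvN⟩ ^ b, ⟨a, ?_⟩, fun hmem => hhK ?_⟩⟩
    · exact ((hext χ hχ).2.2 x g)
    · exact hanti _ (hext χ hχ).1 _ (hext ψ hψ).1 hχ hψ h
    · exact hq.one_lt.ne' (Nat.eq_one_of_dvd_coprimes (hext χ hχ).2.1 h hqf)
    · rw [← map_pow]
      exact MulEquiv.ext fun n => Subtype.ext (by
        rw [MulAut.conjNormal_apply, MulAut.conj_apply]; rfl)
    · rw [← pow_mul, mul_comm, ← hab, pow_orderOf_eq_one]
    · have h1 : ((MulAut.conjNormal (H := N) x ((⟨v, hvN⟩ : N) ^ b) *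
          ((⟨v, hvN⟩ : N) ^ b)⁻¹ : N) : G) ∈ K := habN hmem
      rw [Subgroup.coe_mul, Subgroup.coe_inv, MulAut.conjNormal_apply] at h1
      exact hfree' x hxN _ ((⟨v, hvN⟩ : N) ^ b).2 h1
  haveI : Group.IsSolvable N := solvable_of_solvable_injective N.subtype_injective
  have hone := oneDegree hh
  obtain ⟨χ₁, hχ₁⟩ := hd₁
  subst hχ₁
  obtain ⟨ψ₀, hψ₀⟩ : ∃ ψ : IrrCharacter N, charDegree (ψ : N → ℂ) ≠ 1 := by
    obtain ⟨θ, k, hkd, hk⟩ := hbelow χ₁
    refine ⟨θ, fun hθ => hr.one_lt.ne' ?_⟩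
    rw [hk, hθ, mul_one] at hrd₁
    exact Nat.eq_one_of_dvd_coprimes (hrf _ ⟨χ₁, rfl⟩ (by rwa [hk, hθ, mul_one]))
      (by rwa [hk, hθ, mul_one]) (hrd₁.trans hkd)
  set d := charDegree (ψ₀ : N → ℂ) with hd
  obtain ⟨hdcd, hdf, -⟩ := hext ψ₀ hψ₀
  have hset : charDegrees G = {1, N.index, d} := by
    ext e
    simp only [Set.mem_insert_iff, Set.mem_singleton_iff]
    constructor
    · rintro ⟨χ, rfl⟩
      obtain ⟨θ, k, hkd, hk⟩ := hbelow χ
      by_cases hθ : charDegree (θ : N → ℂ) = 1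
      · rw [hθ, mul_one] at hk
        by_cases h1 : charDegree (χ : G → ℂ) = 1
        · exact Or.inl h1
        · exact Or.inr (Or.inl (hanti _ ⟨χ, rfl⟩ _ hfcd h1 hf1 (hk ▸ hkd)))
      · have hk1 : k = 1 := Nat.eq_one_of_dvd_coprimes
          (hrf _ ⟨χ, rfl⟩ (hk ▸ (hrψ θ hθ).mul_left k)) (hk ▸ dvd_mul_right k _) hkd
        rw [hk1, one_mul] at hk
        exact Or.inr (Or.inr (hk.trans (hone θ ψ₀ hθ hψ₀)))
    · rintro (rfl | rfl | rfl)
      · exact ⟨linearIrr 1, LinearTwist.charDegree_eq_of_apply_one (by simp [linearIrr])⟩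
      · exact hfcd
      · exact hdcd
  have hfd' : N.index ≠ d := fun e => hψ₀ (by
    have h := hdf
    rw [e, ← hd] at h
    exact (Nat.coprime_self d).1 h)
  rw [Nat.card_coe_set_eq, hset, Set.ncard_insert_of_notMem (by
    simp only [Set.mem_insert_iff, Set.mem_singleton_iff, not_or]
    exact ⟨hf1.symm, fun e => hψ₀ e.symm⟩), Set.ncard_pair hfd']

end CfsgLib.Antichain39
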