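import Cfsg.Agent.Lib.Antichain39.Minimal

/-!
# An antichain of nonlinear degrees fixed by a moving automorphism has one member
-/

set_option autoImplicit false
set_option linter.unusedSectionVars false
set_option linter.unusedFintypeInType false
set_option linter.style.haveILetI false

namespace CfsgLib.Antichain39

open Cfsg CfsgLib.Characters CfsgLib.CharCorr
open scoped ComplexConjugate commutatorElement

universe u

variable {N : Type u} [Group N] [Fintype N]

/-- The derived subgroup of a split pair is abelian. -/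
theorem Split.commutator_comm [Group.IsSolvable N] {σ : MulAut N} {q r : ℕ} {H : Subgroup N}
    (hs : Split σ q r H) (L₀ : Subgroup N) [L₀.Normal] (hcop : (Nat.card L₀).Coprime r)
    (hML : commutator N ≤ L₀) :
    ∀ a ∈ commutator N, ∀ b ∈ commutator N, a * b = b * a := by
  classical
  by_contra hna
  set U := ⁅commutator N, commutator N⁆ with hU
  have hU1 : U ≠ ⊥ := fun e => hna fun a ha b hb =>
    commutatorElement_eq_one_iff_mul_comm.1
      (Subgroup.mem_bot.1 (e ▸ Subgroup.commutator_mem_commutator ha hb))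
  have hUM : U ≤ commutator N := Subgroup.commutator_le_self _
  obtain ⟨L, ⟨hLn, hLσ, hLU⟩, hmax⟩ := Set.Finite.exists_maximal
    (Set.toFinite {L : Subgroup N | L.Normal ∧ (∀ x ∈ L, σ x ∈ L) ∧ L < U})
    ⟨⊥, inferInstance, fun x hx => by
      rw [Subgroup.mem_bot] at hx ⊢
      rw [hx, map_one], bot_lt_iff_ne_bot.2 hU1⟩
  haveI := hLn
  haveI := Fintype.ofFinite (N ⧸ L)
  have hLM : L ≤ commutator N := hLU.le.trans hUM
  set π := QuotientGroup.mk' L with hπ
  have hsurj : Function.Surjective π := QuotientGroup.mk'_surjective _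
  have hker : π.ker = L := QuotientGroup.ker_mk' L
  have hmap : L.map (σ : N →* N) = L := by
    refine Subgroup.eq_of_le_of_card_ge (by rintro _ ⟨x, hx, rfl⟩; exact hLσ x hx) (le_of_eq ?_)
    exact Nat.card_congr (L.equivMapOfInjective (σ : N →* N) σ.injective).toEquiv
  let τ : MulAut (N ⧸ L) := QuotientGroup.congr L L σ hmap
  have hτ : ∀ g, τ (π g) = π (σ g) := fun g => rfl
  have hτi : ∀ (i : ℕ) g, (τ ^ i) (π g) = π ((σ ^ i) g) := by
    intro i
    induction i with
    | zero => exact fun g => rfl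
    | succ i ih =>
      intro g
      rw [pow_succ' τ, pow_succ' σ, MulAut.mul_apply, MulAut.mul_apply, ih, hτ]
  have hcomm : commutator (N ⧸ L) = (commutator N).map π := by
    rw [commutator_def, commutator_def, Subgroup.map_commutator,
      Subgroup.map_top_of_surjective π hsurj]
  have hh : Hyp τ q r := by
    refine ⟨hs.hyp.hq, hs.hyp.hr, hs.hyp.hne, fun η hη x => ?_, fun η ξ hη hξ h => ?_,
      fun η hη => ?_, fun η hη => ?_, ?_, ?_⟩
    · obtain ⟨g, rfl⟩ := hsurj x
      rw [hτ, hπ, QuotientGroup.mk'_apply, QuotientGroup.mk'_apply, ← Chars17.infl_apply L η,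
        ← Chars17.infl_apply L η]
      exact hs.hyp.fix _ (by rwa [ThreeDegrees.infl_degree]) g
    · rw [← ThreeDegrees.infl_degree L η] at hη h ⊢
      rw [← ThreeDegrees.infl_degree L ξ] at hξ h ⊢
      exact hs.hyp.anti _ _ hη hξ h
    · rw [← ThreeDegrees.infl_degree L η] at hη ⊢
      exact hs.hyp.rdvd _ hη
    · rw [← ThreeDegrees.infl_degree L η] at hη ⊢
      exact hs.hyp.qdvd _ hη
    · obtain ⟨n₀, hn₀⟩ := hs.hyp.pow
      refine ⟨π n₀, MulEquiv.ext fun x => ?_⟩
      obtain ⟨g, rfl⟩ := hsurj x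
      rw [hτi, hn₀, MulAut.conj_apply, MulAut.conj_apply, map_mul, map_mul, map_inv]
    · obtain ⟨h, ⟨i, hi⟩, hmv⟩ := hs.hyp.moved
      refine ⟨π h, ⟨i, by rw [← map_pow, hi, map_one]⟩, fun e => hmv ?_⟩
      rw [hτ, ← map_inv, ← map_mul, hcomm, ← Subgroup.mem_comap, Subgroup.comap_map_eq, hker,
        sup_eq_left.2 hLM] at e
      exact e
  haveI : (L₀.map π).Normal := Subgroup.Normal.map inferInstance π hsurj
  obtain ⟨n, H', hs'⟩ := exists_split hh (L₀.map π)
    (hcop.coprime_dvd_left (Subgroup.card_map_dvd L₀ π)) (hcomm ▸ Subgroup.map_mono hML)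
  obtain ⟨g₀, hg₀⟩ := hsurj n
  refine hs'.false_of_minimal ?_ ?_
  · rw [hcomm, ← Subgroup.map_commutator, Ne, Subgroup.map_eq_bot_iff, hker]
    exact fun e => hLU.ne (le_antisymm hLU.le e)
  · intro S hS hSσ hSU
    rw [hcomm, ← Subgroup.map_commutator] at hSU ⊢
    haveI := hS
    have hSτ : ∀ x ∈ S, τ x ∈ S := by
      intro x hx
      have := hS.conj_mem' _ (hSσ x hx) n
      rwa [MulAut.mul_apply, MulAut.conj_apply, show n⁻¹ * (n * τ x * n⁻¹) * n = τ x by group]
        at this
    have hTU : S.comap π ≤ U := by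
      have := Subgroup.comap_mono (f := π) hSU
      rwa [Subgroup.comap_map_eq, hker, sup_eq_left.2 hLU.le] at this
    have hLT : L ≤ S.comap π := fun x hx => by
      rw [Subgroup.mem_comap, show π x = 1 from (QuotientGroup.eq_one_iff x).2 hx]
      exact S.one_mem
    rcases hTU.eq_or_lt with e | e
    · refine Or.inr ?_
      rw [← Subgroup.map_comap_eq_self_of_surjective hsurj S, e]
    · refine Or.inl ?_
      have := hmax (y := S.comap π) ⟨inferInstance, fun x hx => by
        rw [Subgroup.mem_comap, ← hτ]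
        exact hSτ _ hx, e⟩ hLT
      rw [← Subgroup.map_comap_eq_self_of_surjective hsurj S, le_antisymm this hLT,
        Subgroup.map_eq_bot_iff, hker]

/-- **All nonlinear degrees agree.** -/
theorem oneDegree [Group.IsSolvable N] {σ : MulAut N} {q r : ℕ} (hh : Hyp σ q r) :
    OneDegree N := by
  rcases oneDegree_or_complement hh with h | ⟨L, hL, hcop, -, hML⟩
  · exact h
  haveI := hL
  obtain ⟨n, H, hs⟩ := exists_split hh L hcop hML
  exact hs.oneDegree_of_comm (hs.commutator_comm L hcop hML)

end CfsgLib.Antichain39
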