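import Cfsg.Agent.Lib.Antichain39.Degrees
import Cfsg.Agent.Lib.FewOrders.Structure
import Mathlib.GroupTheory.SpecificGroups.Cyclic

/-!
# The derived subgroup is abelian
-/

set_option autoImplicit false
set_option linter.unusedSectionVars false
set_option linter.unusedFintypeInType false
set_option linter.style.haveILetI false

namespace CfsgLib.Antichain39

open Cfsg CfsgLib.Characters CfsgLib.CharCorr CfsgLib.Clifford
open scoped ComplexConjugate commutatorElement

universe u

variable {N : Type u} [Group N] [Fintype N]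

theorem exists_pow_eq_of_unique {n s : ℕ} (hn : n ≠ 0)
    (h : ∀ p : ℕ, p.Prime → p ∣ n → p = s) : ∃ k, n = s ^ k :=
  ⟨_, Nat.eq_prime_pow_of_unique_prime_dvd hn fun {d} hd hdn => h d hd hdn⟩

theorem perfect_le_derived {U : Subgroup N} (hU : ⁅U, U⁆ = U) (i : ℕ) :
    U ≤ derivedSeries N i := by
  induction i with
  | zero => exact le_top
  | succ i ih =>
    rw [derivedSeries_succ]
    exact hU.ge.trans (Subgroup.commutator_mono ih ih)

namespace Split

variable {σ : MulAut N} {q r : ℕ} {H : Subgroup N} (hs : Split σ q r H)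
include hs

/-- The double derived subgroup cannot be a minimal invariant normal subgroup. -/
theorem false_of_minimal [Group.IsSolvable N]
    (hU1 : ⁅commutator N, commutator N⁆ ≠ ⊥)
    (hmin : ∀ S : Subgroup N, S.Normal → (∀ x ∈ S, σ x ∈ S) →
      S ≤ ⁅commutator N, commutator N⁆ → S = ⊥ ∨ S = ⁅commutator N, commutator N⁆) : False := by
  classical
  obtain ⟨M, hM⟩ : ∃ M, M = commutator N := ⟨_, rfl⟩
  obtain ⟨U, hU⟩ : ∃ U, U = ⁅M, M⁆ := ⟨_, rfl⟩
  rw [← hM, ← hU] at hU1 hmin
  haveI hMn : M.Normal := hM ▸ commutator_normal'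
  haveI hUn : U.Normal := hU ▸ inferInstance
  have hUM : U ≤ M := hU ▸ Subgroup.commutator_le_self M
  have hσM : ∀ x ∈ M, σ x ∈ M := fun x hx => hM ▸ map_commutator_mem σ (hM ▸ hx)
  have hσcom : ∀ (A : Subgroup N), (∀ x ∈ A, σ x ∈ A) → ∀ x ∈ ⁅A, A⁆, σ x ∈ ⁅A, A⁆ := by
    intro A hA x hx
    have h1 : σ x ∈ ⁅A, A⁆.map σ.toMonoidHom := ⟨x, hx, rfl⟩
    rw [Subgroup.map_commutator] at h1
    have hle : A.map σ.toMonoidHom ≤ A := by rintro _ ⟨a, ha, rfl⟩; exact hA a ha
    exact Subgroup.commutator_mono hle hle h1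
  have hσU : ∀ x ∈ U, σ x ∈ U := hU ▸ hσcom M hσM
  obtain ⟨d, hd⟩ := Group.IsSolvable.solvable (G := N)
  have hperf : ∀ A : Subgroup N, ⁅A, A⁆ = A → A = ⊥ := fun A hA =>
    le_bot_iff.1 (hd ▸ perfect_le_derived hA d)
  have hM1 : M ≠ ⊥ := fun e => hU1 (le_bot_iff.1 (e ▸ hUM))
  -- `U` is elementary abelian
  have hUab : ∀ a ∈ U, ∀ b ∈ U, a * b = b * a := by
    have h2 : ⁅U, U⁆ = ⊥ := (hmin ⁅U, U⁆ inferInstance (hσcom U hσU)
      (Subgroup.commutator_le_self U)).resolve_right fun e => hU1 (hperf U e)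
    intro a ha b hb
    exact commutatorElement_eq_one_iff_mul_comm.1
      (Subgroup.mem_bot.1 (h2 ▸ Subgroup.commutator_mem_commutator ha hb))
  haveI := Fintype.ofFinite U
  haveI := Fintype.ofFinite M
  haveI hUnt : Nontrivial U := U.nontrivial_iff_ne_bot.2 hU1
  obtain ⟨s, hsp, hsd⟩ := Nat.exists_prime_and_dvd (n := Nat.card U)
    (Finite.one_lt_card (α := U)).ne'
  haveI := Fact.mk hsp
  obtain ⟨u₀, hu₀⟩ := exists_prime_orderOf_dvd_card' s hsd
  have hUexp : ∀ u ∈ U, u ^ s = 1 := by
    let S : Subgroup N :=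
      { carrier := {x | x ∈ U ∧ x ^ s = 1}
        one_mem' := ⟨U.one_mem, one_pow s⟩
        mul_mem' := fun {a b} ha hb => ⟨U.mul_mem ha.1 hb.1, by
          rw [Commute.mul_pow (hUab a ha.1 b hb.1), ha.2, hb.2, one_mul]⟩
        inv_mem' := fun {a} ha => ⟨U.inv_mem ha.1, by rw [inv_pow, ha.2, inv_one]⟩ }
    have hS : S = U := by
      refine (hmin S ⟨fun x hx g => ⟨hUn.conj_mem x hx.1 g, by
          rw [conj_pow, hx.2, mul_one, mul_inv_cancel]⟩⟩
        (fun x hx => ⟨hσU x hx.1, by rw [← map_pow, hx.2, map_one]⟩)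
        fun x hx => hx.1).resolve_left fun e => ?_
      have h1 : (u₀ : N) ∈ S := ⟨u₀.2, by
        rw [← Subgroup.coe_pow, ← hu₀, pow_orderOf_eq_one, Subgroup.coe_one]⟩
      rw [e, Subgroup.mem_bot] at h1
      rw [show u₀ = 1 from Subtype.ext h1, orderOf_one] at hu₀
      exact hsp.one_lt.ne hu₀
    exact fun u hu => (show u ∈ S by rw [hS]; exact hu).2
  have hUp : IsPGroup s U := fun u => ⟨1, Subtype.ext (by simpa using hUexp u u.2)⟩
  -- the derived subgroup of `M`
  have hcU : ∀ x : M, x ∈ commutator M ↔ (x : N) ∈ U := by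
    intro x
    rw [hU, ← Subgroup.map_subtype_commutator M]
    exact ⟨fun h => ⟨x, h, rfl⟩, fun ⟨y, hy, e⟩ => Subtype.ext e ▸ hy⟩
  have hcUcard : Nat.card (commutator M) = Nat.card U :=
    Nat.card_congr
      { toFun := fun x => ⟨(x.1 : N), (hcU x.1).1 x.2⟩
        invFun := fun x => ⟨⟨x.1, hUM x.2⟩, (hcU _).2 x.2⟩
        left_inv := fun x => rfl
        right_inv := fun x => rfl }
  have hcam : ∀ m : M, m ∉ commutator M →
      Nat.card (Subgroup.centralizer ({m} : Set M)) = (commutator M).index := by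
    subst hM
    exact fun m hm => card_centralizer_of_coset fun z hz =>
      isConj_of_vanish (fun θ hθ => hs.vanish θ hθ hm) hz
  -- fixed points on the quotient
  have hfpfM : ∀ y ∈ H, σ y ≠ y → ∀ m ∈ M, ∃ v ∈ M, v⁻¹ * (y * v * y⁻¹) = m := by
    intro y hy hne m hm
    let f : M → M := fun v => v⁻¹ * conjHom hMn y v
    have hf : Function.Injective f := by
      intro u v huv
      have e : (u : N)⁻¹ * (y * u * y⁻¹) = (v : N)⁻¹ * (y * v * y⁻¹) := congrArg Subtype.val huv
      have h0 := hs.fpf y hy hne ((v : N) * (u : N)⁻¹)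
        (hM ▸ M.mul_mem v.2 (M.inv_mem u.2)) ?_
      · exact Subtype.ext (mul_inv_eq_one.1 h0).symm
      calc y * ((v : N) * (u : N)⁻¹) = (y * v * y⁻¹) * (y * u * y⁻¹)⁻¹ * y := by group
        _ = ((v : N) * ((u : N)⁻¹ * (y * u * y⁻¹))) * (y * u * y⁻¹)⁻¹ * y := by
          rw [e]; group
        _ = (v : N) * (u : N)⁻¹ * y := by group
    obtain ⟨v, hv⟩ := Finite.surjective_of_injective hf ⟨m, hm⟩
    exact ⟨v, v.2, congrArg Subtype.val hv⟩
  by_cases hcent : ∀ u ∈ U, ∀ m ∈ M, u * m = m * u
  · -- `U` is central in `M`: compare fixed points on the two layers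
    have hfix1 : ∀ (f : U →* ℂˣ), ∀ m ∈ commutator N, ∀ u : U, f (conjHom hUn m u) = f u := by
      intro f m hm u
      exact congrArg f (Subtype.ext (show m * u * m⁻¹ = (u : N) by
        rw [← hcent u u.2 m (hM ▸ hm), mul_inv_cancel_right]))
    obtain ⟨F₁, hF₁⟩ := hs.count_hom hUn (hM ▸ hUM) hσU hfix1
    have hfix2 : ∀ (f : commutator N →* ℂˣ), ∀ m ∈ commutator N, ∀ u : commutator N,
        f (conjHom commutator_normal' m u) = f u := by
      intro f m hm u
      show f (⟨m, hm⟩ * u * (⟨m, hm⟩ : commutator N)⁻¹) = f u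
      rw [map_mul, map_mul, map_inv, mul_inv_cancel_comm]
    obtain ⟨F₂, hF₂⟩ := hs.count_hom commutator_normal' le_rfl
      (fun x hx => map_commutator_mem σ hx) hfix2
    have hcardU : Nat.card (U →* ℂˣ) = Nat.card U := by
      rw [Palfy80.card_hom, Palfy80.commutator_eq_bot hUab, Subgroup.index_bot]
    have hcardM : Nat.card (commutator N →* ℂˣ) = (commutator M).index := by
      subst hM
      exact Palfy80.card_hom _
    -- the index is a power of `s`, larger than the order of `U`
    haveI : (commutator M).Normal := inferInstance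
    have hexp : ∀ m : M, m ^ s ∈ commutator M := by
      intro m
      by_contra hne
      have hcl : ∀ n : M, m ^ s * n = n * m ^ s := by
        intro n
        have hc0 : ⁅(m : N), (n : N)⁆ ∈ U := hU ▸ Subgroup.commutator_mem_commutator m.2 n.2
        have hcomm : Commute (m : N) ⁅(m : N), (n : N)⁆ := (hcent _ hc0 _ m.2).symm
        have key : ∀ i : ℕ, (m : N) ^ i * n = ⁅(m : N), (n : N)⁆ ^ i * n * (m : N) ^ i := by
          intro i
          induction i with
          | zero => simp
          | succ i ih =>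
            set c := ⁅(m : N), (n : N)⁆ with hc
            calc (m : N) ^ (i + 1) * n = m * ((m : N) ^ i * n) := by rw [pow_succ', mul_assoc]
              _ = m * (c ^ i * n * (m : N) ^ i) := by rw [ih]
              _ = c ^ i * (m * n) * (m : N) ^ i := by
                simp only [← mul_assoc, (hcomm.pow_right i).eq]
              _ = c ^ i * (c * n * m) * (m : N) ^ i := by
                rw [show (m : N) * n = c * n * m by rw [hc, commutatorElement_def]; group]
              _ = c ^ (i + 1) * n * (m : N) ^ (i + 1) := by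
                rw [pow_succ c, pow_succ' (m : N)]; simp only [mul_assoc]
        refine Subtype.ext ?_
        have := key s
        rw [hUexp _ hc0, one_mul] at this
        simpa using this
      have h1 := hcam _ hne
      rw [show Subgroup.centralizer ({m ^ s} : Set M) = ⊤ from eq_top_iff.2 fun n _ =>
        Subgroup.mem_centralizer_singleton_iff.2 (hcl n).symm, Subgroup.card_top,
        ← (commutator M).card_mul_index] at h1
      have h2 := Nat.eq_of_mul_eq_mul_right (Nat.pos_of_ne_zero Subgroup.index_ne_zero_of_finite)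
        (h1.trans (one_mul _).symm)
      rw [hcUcard] at h2
      exact (Finite.one_lt_card (α := U)).ne' h2
    obtain ⟨n, hn⟩ : ∃ n, (commutator M).index = s ^ n := by
      rw [Subgroup.index_eq_card]
      exact IsPGroup.iff_card.1 fun x => by
        induction x using QuotientGroup.induction_on with
        | H m =>
          refine ⟨1, ?_⟩
          rw [pow_one, ← QuotientGroup.mk_pow, QuotientGroup.eq_one_iff]
          exact hexp m
    obtain ⟨l, hl⟩ := IsPGroup.iff_card.1 hUp
    obtain ⟨m₁, hm₁⟩ : ∃ m : M, m ∉ commutator M := by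
      by_contra! h
      refine hM1 (hperf M (le_antisymm (Subgroup.commutator_le_self M) fun x hx => ?_))
      exact hU ▸ (hcU ⟨x, hx⟩).1 (h _)
    have hlt : Nat.card U < (commutator M).index := by
      let φ : M →* U :=
        { toFun := fun x => ⟨⁅(m₁ : N), (x : N)⁆, hU ▸ Subgroup.commutator_mem_commutator m₁.2 x.2⟩
          map_one' := Subtype.ext (commutatorElement_one_right _)
          map_mul' := fun a b => Subtype.ext (by
            have hb : ⁅(m₁ : N), (b : N)⁆ ∈ U := hU ▸ Subgroup.commutator_mem_commutator m₁.2 b.2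
            show ⁅(m₁ : N), (a : N) * b⁆ = ⁅(m₁ : N), (a : N)⁆ * ⁅(m₁ : N), (b : N)⁆
            rw [show ⁅(m₁ : N), (a : N) * b⁆ =
              ⁅(m₁ : N), (a : N)⁆ * ((a : N) * ⁅(m₁ : N), (b : N)⁆ * (a : N)⁻¹) by
              simp only [commutatorElement_def]; group, ← hcent _ hb _ a.2, mul_inv_cancel_right]) }
      have hker : φ.ker = Subgroup.centralizer ({m₁} : Set M) := by
        ext x
        rw [MonoidHom.mem_ker, Subgroup.mem_centralizer_singleton_iff, Subtype.ext_iff]
        show ⁅(m₁ : N), (x : N)⁆ = 1 ↔ _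
        rw [commutatorElement_eq_one_iff_mul_comm, Subtype.ext_iff]
        exact eq_comm
      have hlt' : Nat.card (commutator M) < Nat.card φ.ker := by
        rw [hker]
        refine lt_of_le_of_ne (Subgroup.card_le_of_le fun x hx => ?_) fun e => hm₁ ?_
        · exact Subgroup.mem_centralizer_singleton_iff.2
            (Subtype.ext (hcent _ ((hcU x).1 hx) _ m₁.2))
        · have heq := Subgroup.eq_of_le_of_card_ge (H := commutator M)
            (K := Subgroup.centralizer ({m₁} : Set M)) (fun x hx =>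
              Subgroup.mem_centralizer_singleton_iff.2
                (Subtype.ext (hcent _ ((hcU x).1 hx) _ m₁.2))) e.ge
          rw [heq]
          exact Subgroup.mem_centralizer_singleton_iff.2 rfl
      rw [hker, hcam m₁ hm₁, hcUcard] at hlt'
      exact hlt'
    obtain ⟨a, -, ha⟩ := (Nat.dvd_prime_pow hsp).1
      ((hcardU.trans hl) ▸ Subgroup.card_subgroup_dvd_card F₁)
    obtain ⟨b, -, hb⟩ := (Nat.dvd_prime_pow hsp).1
      ((hcardM.trans hn) ▸ Subgroup.card_subgroup_dvd_card F₂)
    rw [hcardU, hl, ha] at hF₁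
    rw [hcardM, hn, hb] at hF₂
    set C : Subgroup H :=
      { carrier := {a | σ (a : N) = a}
        one_mem' := map_one σ
        mul_mem' := fun {a b} (ha : σ (a : N) = a) (hb : σ (b : N) = b) => by
          show σ ((a : N) * b) = (a : N) * b
          rw [map_mul, ha, hb]
        inv_mem' := fun {a} (ha : σ (a : N) = a) => by
          show σ (a : N)⁻¹ = (a : N)⁻¹
          rw [map_inv, ha] } with hC
    have hcf : (Nat.card {a : H // σ (a : N) = a} : ℤ) = (Nat.card C : ℤ) := rfl
    have hC0 : (Nat.card C : ℤ) ≠ 0 := by exact_mod_cast Nat.card_pos.ne'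
    have hk : 1 < C.index := by
      refine Subgroup.one_lt_index_of_ne_top fun e => ?_
      obtain ⟨h, hh, hne, -⟩ := hs.exists_moved
      exact hne (show (⟨h, hh⟩ : H) ∈ C from e ▸ Subgroup.mem_top _)
    have hH : (Nat.card H : ℤ) = (Nat.card C : ℤ) * (C.index : ℤ) := by
      exact_mod_cast C.card_mul_index.symm
    rw [hcf, hH] at hF₁ hF₂
    push_cast at hF₁ hF₂
    have e₁ : (s : ℤ) ^ l - 1 = (C.index : ℤ) * ((s : ℤ) ^ a - 1) :=
      mul_right_cancel₀ hC0 (by linear_combination hF₁)
    have e₂ : (s : ℤ) ^ n - 1 = (C.index : ℤ) * ((s : ℤ) ^ b - 1) :=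
      mul_right_cancel₀ hC0 (by linear_combination hF₂)
    have hl0 : l ≠ 0 := fun e => (Finite.one_lt_card (α := U)).ne' (by rw [hl, e, pow_zero])
    have hn0 : n ≠ 0 := fun e => by
      rw [hn, e, pow_zero] at hlt
      have := Finite.one_lt_card (α := U)
      omega
    have := exponent_unique hsp hk e₁ e₂ hl0 hn0
    rw [hn, hl, this] at hlt
    exact lt_irrefl _ hlt
  · -- `M` acts non-trivially on `U`
    push Not at hcent
    obtain ⟨u₁, hu₁, n₁, hn₁, hne₁⟩ := hcent
    -- the kernel of the action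
    let K : Subgroup M :=
      { carrier := {m | ∀ u ∈ U, u * (m : N) = m * u}
        one_mem' := fun u _ => by simp
        mul_mem' := fun {a b} ha hb u hu => by
          rw [Subgroup.coe_mul, ← mul_assoc, ha u hu, mul_assoc, hb u hu, mul_assoc]
        inv_mem' := fun {a} ha u hu => by
          rw [Subgroup.coe_inv]
          exact (Commute.inv_right (ha u hu : Commute u (a : N))).eq }
    have hKc : commutator M ≤ K := fun x hx u hu => hUab u hu x ((hcU x).1 hx)
    haveI hKn : K.Normal := normal_of_commutator_le hKc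
    obtain ⟨p, hp, hps, m, i, hmi, hmK⟩ : ∃ p : ℕ, p.Prime ∧ p ≠ s ∧ ∃ (m : M) (i : ℕ),
        m ^ p ^ i = 1 ∧ m ∉ K := by
      by_contra hcon
      push Not at hcon
      -- then the quotient is an `s`-group
      have hQ : IsPGroup s (M ⧸ K) := by
        refine IsPGroup.iff_card.2 (exists_pow_eq_of_unique Nat.card_pos.ne' fun p hp hpd => ?_)
        by_contra hps
        haveI := Fact.mk hp
        obtain ⟨x, hx⟩ := exists_prime_orderOf_dvd_card' p hpd
        induction x using QuotientGroup.induction_on with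
        | H m =>
          obtain ⟨i, b, hpb, hib⟩ :=
            Nat.exists_eq_pow_mul_and_not_dvd (orderOf_pos m).ne' p hp.ne_one
          have hmem := hcon p hp hps (m ^ b) i (by
            rw [← pow_mul, mul_comm, ← hib, pow_orderOf_eq_one])
          apply hpb
          rw [← hx]
          refine orderOf_dvd_of_pow_eq_one ?_
          rw [← QuotientGroup.mk_pow, QuotientGroup.eq_one_iff]
          exact hmem
      let act : M →* MulAut U := (MulAut.conjNormal (H := U)).comp M.subtype
      have hact : K ≤ act.ker := fun k hk => MulEquiv.ext fun u => Subtype.ext (by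
        show (k : N) * u * (k : N)⁻¹ = u
        rw [← hk u u.2, mul_inv_cancel_right])
      letI : MulAction (M ⧸ K) U := MulAction.compHom U (QuotientGroup.lift K act hact)
      obtain ⟨b, hb, hb1⟩ := hQ.exists_fixed_point_of_prime_dvd_card_of_fixed_point U hsd
        (a := (1 : U)) (fun g => map_one (QuotientGroup.lift K act hact g))
      have hbc : ∀ x ∈ M, (b : N) * x = x * b := by
        intro x hx
        have h1 := congrArg Subtype.val (hb (QuotientGroup.mk (⟨x, hx⟩ : M)))
        change x * (b : N) * x⁻¹ = b at h1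
        exact (mul_inv_eq_iff_eq_mul.1 h1).symm
      let S : Subgroup N :=
        { carrier := {u | u ∈ U ∧ ∀ x ∈ M, u * x = x * u}
          one_mem' := ⟨U.one_mem, fun x _ => by simp⟩
          mul_mem' := fun {a c} ha hc => ⟨U.mul_mem ha.1 hc.1, fun x hx => by
            rw [mul_assoc, hc.2 x hx, ← mul_assoc, ha.2 x hx, mul_assoc]⟩
          inv_mem' := fun {a} ha => ⟨U.inv_mem ha.1, fun x hx =>
            (Commute.inv_left (ha.2 x hx : Commute a x)).eq⟩ }
      have hSn : S.Normal := ⟨fun u hu g => ⟨hUn.conj_mem u hu.1 g, fun x hx => by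
        have := hu.2 (g⁻¹ * x * g) (hMn.conj_mem' x hx g)
        calc g * u * g⁻¹ * x = g * (u * (g⁻¹ * x * g)) * g⁻¹ := by group
          _ = g * ((g⁻¹ * x * g) * u) * g⁻¹ := by rw [this]
          _ = x * (g * u * g⁻¹) := by group⟩⟩
      have hSσ : ∀ u ∈ S, σ u ∈ S := by
        intro u hu
        refine ⟨hσU u hu.1, fun x hx => ?_⟩
        have hx' : σ.symm x ∈ M := hM ▸ map_commutator_mem σ.symm (hM ▸ hx)
        have := congrArg σ (hu.2 _ hx')
        simpa using this
      rcases hmin S hSn hSσ (fun u hu => hu.1) with e | e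
      · exact hb1.symm (Subtype.ext (Subgroup.mem_bot.1
          (e ▸ (⟨b.2, hbc⟩ : (b : N) ∈ S))))
      · exact hne₁ ((show u₁ ∈ S by rw [e]; exact hu₁).2 n₁ hn₁)
    haveI := Fact.mk hp
    have hmU : m ∉ commutator M := fun h => hmK (hKc h)
    obtain ⟨hinf, hsup⟩ := complement_of_card hmi (hcam m hmU) fun hd' => hps (by
      obtain ⟨l, hl⟩ := IsPGroup.iff_card.1 hUp
      rw [hcUcard, hl] at hd'
      exact (Nat.prime_dvd_prime_iff_eq hp hsp).1 (hp.dvd_of_dvd_pow hd'))
    set D := Subgroup.centralizer ({m} : Set M) with hD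
    have hDab : ∀ a ∈ D, ∀ b ∈ D, a * b = b * a := fun a ha b hb => by
      refine commutatorElement_eq_one_iff_mul_comm.1 (Subgroup.mem_bot.1 (hinf.le
        ⟨Subgroup.commutator_mem_commutator (Subgroup.mem_top a) (Subgroup.mem_top b), ?_⟩))
      rw [commutatorElement_def]
      exact D.mul_mem (D.mul_mem (D.mul_mem ha hb) (D.inv_mem ha)) (D.inv_mem hb)
    haveI : IsMulCommutative D := ⟨⟨fun a b => Subtype.ext (hDab a a.2 b b.2)⟩⟩
    have hcyc : IsCyclic D := by
      refine FewOrders.isCyclic_of_conj_fpf (commutator M) D (fun e => ?_) fun a ha ha1 v hv hav =>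
        ?_
      · rw [e, Subgroup.card_bot] at hcUcard
        exact (Finite.one_lt_card (α := U)).ne hcUcard
      · have haU : a ∉ commutator M := fun h => ha1 (Subgroup.mem_bot.1 (hinf.le ⟨h, ha⟩))
        have heq : Subgroup.centralizer ({a} : Set M) = D :=
          (Subgroup.eq_of_le_of_card_ge
            (fun c hc => Subgroup.mem_centralizer_singleton_iff.2 (hDab c hc a ha))
            (by rw [hcam a haU, hD, hcam m hmU])).symm
        refine Subgroup.mem_bot.1 (hinf.le ⟨hv, ?_⟩)
        rw [← heq]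
        exact Subgroup.mem_centralizer_singleton_iff.2 hav.eq.symm
    obtain ⟨g, hg⟩ := hcyc.exists_generator
    let mk := QuotientGroup.mk' (commutator M)
    have hmk : ∀ x : M, ∃ i : ℤ, mk x = mk (g : M) ^ i := by
      intro x
      obtain ⟨c, hc, v, hv, rfl⟩ :=
        Subgroup.mem_sup_of_normal_right.1 (show x ∈ D ⊔ commutator M by rw [hsup]; trivial)
      obtain ⟨i, hi⟩ := Subgroup.mem_zpowers_iff.1 (hg ⟨c, hc⟩)
      refine ⟨i, ?_⟩
      rw [map_mul, show mk v = 1 from (QuotientGroup.eq_one_iff v).2 hv, mul_one, ← map_zpow]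
      exact congrArg mk (congrArg Subtype.val hi).symm
    -- two maps on the cyclic quotient commute
    obtain ⟨h, hhH, hne, hz⟩ := hs.exists_moved
    let A : M →* M := conjHom hMn h
    let B : M →* M := (σ.toMonoidHom.comp M.subtype).codRestrict M fun x => hσM x x.2
    obtain ⟨a, ha⟩ := hmk (A g)
    obtain ⟨b, hb⟩ := hmk (B g)
    have hker : ∀ (F : M →* M) (x y : M), mk x = mk y → mk (F x) = mk (F y) := by
      intro F x y e
      refine QuotientGroup.eq.2 ?_
      rw [← map_inv, ← map_mul]
      have h1 := map_derivedSeries_le_derivedSeries F 1 ⟨x⁻¹ * y, by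
        rw [SetLike.mem_coe, derivedSeries_one]; exact QuotientGroup.eq.1 e, rfl⟩
      rwa [derivedSeries_one] at h1
    have hpow : ∀ (F : M →* M) (c : ℤ), mk (F g) = mk (g : M) ^ c → ∀ (x : M) (i : ℤ),
        mk x = mk (g : M) ^ i → mk (F x) = mk (g : M) ^ (c * i) := by
      intro F c hc x i hi
      rw [hker F x ((g : M) ^ i) (by rw [hi, map_zpow]), map_zpow, map_zpow, hc, zpow_mul]
    have hAB : ∀ x : M, mk (B (A x)) = mk (A (B x)) := by
      intro x
      obtain ⟨i, hi⟩ := hmk x
      rw [hpow B b hb (A x) (a * i) (hpow A a ha x i hi),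
        hpow A a ha (B x) (b * i) (hpow B b hb x i hi)]
      ring_nf
    -- hence `h⁻¹ σ h` centralises the quotient
    set z := h⁻¹ * σ h with hzdef
    have hzH : z ∈ H := H.mul_mem (H.inv_mem hhH) (hs.map_mem h hhH)
    have hzc : ∀ w ∈ M, w⁻¹ * (z * w * z⁻¹) ∈ U := by
      intro w hw
      have hw' : σ.symm w ∈ M := hM ▸ map_commutator_mem σ.symm (hM ▸ hw)
      have h1 := (hcU _).1 (QuotientGroup.eq.1 (hAB ⟨σ.symm w, hw'⟩).symm)
      change (h * σ (σ.symm w) * h⁻¹)⁻¹ * σ (h * σ.symm w * h⁻¹) ∈ U at h1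
      rw [map_mul, map_mul, map_inv, MulEquiv.apply_symm_apply] at h1
      have := hUn.conj_mem' _ h1 h
      rwa [show h⁻¹ * ((h * w * h⁻¹)⁻¹ * (σ h * w * (σ h)⁻¹)) * h =
        w⁻¹ * (z * w * z⁻¹) by rw [hzdef]; group] at this
    refine hM1 (hperf M (le_antisymm (Subgroup.commutator_le_self M) fun x hx => ?_))
    obtain ⟨v, hv, hvx⟩ := hfpfM z hzH hz x hx
    rw [← hU, ← hvx]
    exact hzc v hv

end Split

end CfsgLib.Antichain39
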