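import Cfsg.Agent.Lib.Antichain39.Setup
import Cfsg.Agent.Lib.Antichain39.Count
import Cfsg.Agent.Lib.Structure81.RelDegreeGraph
import Cfsg.Agent.Lib.ThreeDegrees.Basic

/-!
# Orbits of the complement on linear characters
-/

set_option autoImplicit false
set_option linter.unusedSectionVars false
set_option linter.unusedFintypeInType false
set_option linter.style.haveILetI false

namespace CfsgLib.Antichain39

open Cfsg CfsgLib.Characters CfsgLib.CharCorr CfsgLib.Clifford
open scoped ComplexConjugate commutatorElement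

universe u

variable {N : Type u} [Group N] [Fintype N]

/-- A subgroup containing the derived subgroup is normal. -/
theorem normal_of_commutator_le {I : Subgroup N} (h : commutator N ≤ I) : I.Normal := by
  refine ⟨fun n hn g => ?_⟩
  have h1 : ⁅g, n⁆ ∈ I :=
    h (Subgroup.commutator_mem_commutator (Subgroup.mem_top _) (Subgroup.mem_top _))
  have h2 := I.mul_mem h1 hn
  rwa [show ⁅g, n⁆ * n = g * n * g⁻¹ by rw [commutatorElement_def]; group] at h2

/-- Conjugates of a class function of the derived subgroup commute. -/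
theorem conjChar_swap (hM : (commutator N).Normal) {θ : commutator N → ℂ}
    (hθ : IsClassFunction (commutator N) θ) (a b : N) :
    conjChar hM θ (a * b) = conjChar hM θ (b * a) := by
  have hc : ⁅a, b⁆ ∈ commutator N :=
    Subgroup.commutator_mem_commutator (Subgroup.mem_top _) (Subgroup.mem_top _)
  have h1 : conjChar hM θ ⁅a, b⁆ = θ := funext fun n => hθ n ⟨⁅a, b⁆, hc⟩
  rw [show a * b = ⁅a, b⁆ * (b * a) by rw [commutatorElement_def]; group, ← conjChar_mul, h1]

namespace Split

variable {σ : MulAut N} {q r : ℕ} {H : Subgroup N} (hs : Split σ q r H)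
include hs

/-- A moved element of the complement fixes no linear character of a normal subgroup of `N′`. -/
theorem eq_one_of_fixed {U : Subgroup N} (hU : U.Normal) (hUM : U ≤ commutator N) {y : N}
    (hy : y ∈ H) (hne : σ y ≠ y) (f : U →* ℂˣ)
    (hfix : ∀ u : U, f (conjHom hU y u) = f u) : f = 1 := by
  let d : U → U := fun u => u⁻¹ * conjHom hU y u
  have hd : Function.Injective d := by
    intro u v huv
    have e : (u : N)⁻¹ * (y * u * y⁻¹) = (v : N)⁻¹ * (y * v * y⁻¹) := congrArg Subtype.val huv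
    have h0 := hs.fpf y hy hne ((v : N) * (u : N)⁻¹)
      (Subgroup.mul_mem _ (hUM v.2) (Subgroup.inv_mem _ (hUM u.2))) ?_
    · exact Subtype.ext (mul_inv_eq_one.1 h0).symm
    calc y * ((v : N) * (u : N)⁻¹) = (y * v * y⁻¹) * (y * u * y⁻¹)⁻¹ * y := by group
      _ = ((v : N) * ((u : N)⁻¹ * (y * u * y⁻¹))) * (y * u * y⁻¹)⁻¹ * y := by
        rw [e]; group
      _ = (v : N) * (u : N)⁻¹ * y := by group
  ext u
  obtain ⟨v, rfl⟩ := Finite.surjective_of_injective hd u
  simp [d, hfix]

theorem exists_conj_comp {U : Subgroup N} (hU : U.Normal)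
    (hfixM : ∀ (f : U →* ℂˣ), ∀ m ∈ commutator N, ∀ u : U, f (conjHom hU m u) = f u)
    (f : U →* ℂˣ) (g : N) : ∃ y ∈ H, f.comp (conjHom hU g) = f.comp (conjHom hU y) := by
  obtain ⟨y, hy, m, hm, rfl⟩ :=
    Subgroup.mem_sup_of_normal_right.1 (show g ∈ H ⊔ commutator N by rw [hs.sup]; trivial)
  refine ⟨y, hy, MonoidHom.ext fun u => ?_⟩
  have h := hfixM (f.comp (conjHom hU y)) m hm u
  rw [MonoidHom.comp_apply, MonoidHom.comp_apply]
  calc f (conjHom hU (y * m) u) = f (conjHom hU y (conjHom hU m u)) :=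
        congrArg f (Subtype.ext (by simp [conjHom, mul_assoc]))
    _ = f (conjHom hU y u) := h

/-- Counting the linear characters of an invariant normal subgroup of `N′` fixed by a translate
of `σ`. -/
theorem count_hom {U : Subgroup N} (hU : U.Normal) (hUM : U ≤ commutator N)
    (hσU : ∀ x ∈ U, σ x ∈ U)
    (hfixM : ∀ (f : U →* ℂˣ), ∀ m ∈ commutator N, ∀ u : U, f (conjHom hU m u) = f u) :
    ∃ F : Subgroup (U →* ℂˣ),
      ((Nat.card (U →* ℂˣ) : ℤ) - 1) * (Nat.card {a : H // σ (a : N) = a} : ℤ) =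
        (Nat.card H : ℤ) * ((Nat.card F : ℤ) - 1) := by
  classical
  haveI := Fintype.ofFinite U
  letI : CommGroup H :=
    { (inferInstance : Group H) with mul_comm := fun a b => Subtype.ext (hs.comm a a.2 b b.2) }
  let σH₀ : H →* H := (σ.toMonoidHom.comp H.subtype).codRestrict H fun y => hs.map_mem y y.2
  let σH : MulAut H := MulEquiv.ofBijective σH₀ (Finite.injective_iff_bijective.1 fun a b h =>
    Subtype.ext (σ.injective (congrArg Subtype.val h)))
  let σU₀ : U →* U := (σ.toMonoidHom.comp U.subtype).codRestrict U fun u => hσU u u.2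
  let σU : U ≃* U := MulEquiv.ofBijective σU₀ (Finite.injective_iff_bijective.1 fun a b h =>
    Subtype.ext (σ.injective (congrArg Subtype.val h)))
  have hσH : ∀ a : H, ((σH a : H) : N) = σ a := fun a => rfl
  have hσU' : ∀ u : U, ((σU u : U) : N) = σ u := fun u => rfl
  -- the action
  have hcomp : ∀ (a b : N) (f : U →* ℂˣ),
      (f.comp (conjHom hU a)).comp (conjHom hU b) = f.comp (conjHom hU (a * b)) :=
    fun a b f => MonoidHom.ext fun u => congrArg f (Subtype.ext (by simp [conjHom, mul_assoc]))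
  have hone : ∀ f : U →* ℂˣ, f.comp (conjHom hU 1) = f :=
    fun f => MonoidHom.ext fun u => congrArg f (Subtype.ext (by simp [conjHom]))
  have hne1 : ∀ (a : N) (f : U →* ℂˣ), f ≠ 1 → f.comp (conjHom hU a) ≠ 1 := fun a f hf h => hf
    (MonoidHom.ext fun u => by
      obtain ⟨v, rfl⟩ := conjHom_surjective hU a u
      exact DFunLike.congr_fun h v)
  let Ω := {f : U →* ℂˣ // f ≠ 1}
  let e : H → Equiv.Perm Ω := fun a =>
    { toFun := fun f => ⟨f.1.comp (conjHom hU (a : N)⁻¹), hne1 _ _ f.2⟩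
      invFun := fun f => ⟨f.1.comp (conjHom hU (a : N)), hne1 _ _ f.2⟩
      left_inv := fun f => Subtype.ext (by
        show (f.1.comp (conjHom hU (a : N)⁻¹)).comp (conjHom hU (a : N)) = f.1
        rw [hcomp, inv_mul_cancel, hone])
      right_inv := fun f => Subtype.ext (by
        show (f.1.comp (conjHom hU (a : N))).comp (conjHom hU (a : N)⁻¹) = f.1
        rw [hcomp, mul_inv_cancel, hone]) }
  let ρ : H →* Equiv.Perm Ω := MonoidHom.mk' e fun a b => Equiv.ext fun f => Subtype.ext (by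
    show f.1.comp (conjHom hU ((a * b : H) : N)⁻¹) =
      (f.1.comp (conjHom hU (b : N)⁻¹)).comp (conjHom hU (a : N)⁻¹)
    rw [hcomp, Subgroup.coe_mul, mul_inv_rev])
  have hρ : ∀ (a : H) (f : Ω), (ρ a f).1 = f.1.comp (conjHom hU (a : N)⁻¹) := fun a f => rfl
  let s : Ω → Ω := fun f => ⟨f.1.comp σU.symm.toMonoidHom, fun h => f.2 (MonoidHom.ext fun u => by
    have := DFunLike.congr_fun h (σU u)
    simpa using this)⟩
  have hsv : ∀ (f : Ω) (u : U), (s f).1 (σU u) = f.1 u := fun f u =>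
    congrArg f.1 (σU.symm_apply_apply u)
  have hsurjU : ∀ u : U, ∃ v, σU v = u := σU.surjective
  have heq : ∀ a f, s (ρ a f) = ρ (σH a) (s f) := fun a f => Subtype.ext (MonoidHom.ext fun u => by
    obtain ⟨v, rfl⟩ := hsurjU u
    rw [hsv, hρ, hρ, MonoidHom.comp_apply, MonoidHom.comp_apply, ← hsv f]
    exact congrArg (s f).1 (Subtype.ext (by simp [conjHom, hσH, hσU'])))
  obtain ⟨n₀, hn₀H, hn₀⟩ := hs.pow_mem
  have hitH : ∀ (i : ℕ) (a : H), (((σH : H → H)^[i] a : H) : N) = (σ ^ i) (a : N) := by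
    intro i a
    induction i with
    | zero => simp
    | succ i ih => rw [Function.iterate_succ_apply', hσH, ih, pow_succ', MulAut.mul_apply]
  have hσq : ∀ a, (σH : H → H)^[q] a = a := fun a => Subtype.ext (by
    rw [hitH, hn₀, MulAut.conj_apply, hs.comm _ hn₀H _ a.2, mul_inv_cancel_right])
  have hits : ∀ (i : ℕ) (f : Ω) (u v : U), ((v : U) : N) = (σ ^ i) (u : N) →
      (s^[i] f).1 v = f.1 u := by
    intro i
    induction i with
    | zero => intro f u v h; rw [show v = u from Subtype.ext (by simpa using h)]; rfl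
    | succ i ih =>
      intro f u v h
      obtain ⟨w, rfl⟩ := hsurjU v
      rw [Function.iterate_succ_apply', hsv]
      refine ih f u w (σ.injective ?_)
      rw [← hσU', h, pow_succ', MulAut.mul_apply]
  have hsq : ∀ f, s^[q] f = ρ ⟨n₀, hn₀H⟩ f := fun f => Subtype.ext (MonoidHom.ext fun v => by
    rw [hits q f (conjHom hU n₀⁻¹ v) v (by
      rw [hn₀, MulAut.conj_apply]; simp [conjHom, mul_assoc]), hρ]
    rfl)
  -- orbits
  have hover : ∀ f : Ω, ∃ (χ : IrrCharacter N) (θ : IrrCharacter U),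
      (θ : U → ℂ) = (fun u => (f.1 u : ℂ)) ∧ charDegree (χ : N → ℂ) ≠ 1 ∧
      classInner (fun x : U => (χ : N → ℂ) x) (θ : U → ℂ) ≠ 0 := by
    intro f
    obtain ⟨χ, hχ, -⟩ := ThreeDegrees.exists_above U
      (⟨_, isIrrCharacter_of_hom f.1⟩ : IrrCharacter U)
    refine ⟨χ, _, rfl, fun h1 => f.2 ?_, hχ⟩
    obtain ⟨g, hg⟩ := LinearTwist.exists_hom_of_charDegree_one (irr_isCharacter χ) h1
    have e1 : (fun x : U => (χ : N → ℂ) x) = fun _ => (1 : ℂ) := funext fun u => by
      rw [hg]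
      show ((g u : ℂˣ) : ℂ) = 1
      rw [show g (u : N) = 1 from Abelianization.commutator_subset_ker g (hUM u.2), Units.val_one]
    by_contra hf1
    refine hχ ?_
    rw [e1]
    exact classInner_irr_ne isIrrCharacter_one (isIrrCharacter_of_hom f.1) fun e2 =>
      hf1 (MonoidHom.ext fun u => Units.ext (congrFun e2 u).symm)
  have horb : ∀ f, ∃ a, s f = ρ a f := by
    intro f
    obtain ⟨χ, θ, hθ, hnl, hχ⟩ := hover f
    have h2 : classInner (fun x : U => (χ : N → ℂ) x) (fun u => ((s f).1 u : ℂ)) ≠ 0 := by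
      rw [show classInner (fun x : U => (χ : N → ℂ) x) (fun u => ((s f).1 u : ℂ)) =
          classInner (fun x : U => (χ : N → ℂ) x) (θ : U → ℂ) by
        unfold classInner
        congr 1
        refine (Fintype.sum_equiv σU.toEquiv _ _ fun u => ?_).symm
        show (χ : N → ℂ) u * conj ((θ : U → ℂ) u) =
          (χ : N → ℂ) (σU u : U) * conj (((s f).1 (σU u) : ℂˣ) : ℂ)
        rw [hσU', hs.hyp.fix χ hnl, hsv, hθ]]
      exact hχ
    obtain ⟨g, hg⟩ := exists_conj_of_constituent hU χ.2 θ.2 (isIrrCharacter_of_hom (s f).1) hχ h2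
    obtain ⟨y, hy, hyg⟩ := hs.exists_conj_comp hU hfixM f.1 g
    refine ⟨⟨y, hy⟩⁻¹, Subtype.ext (MonoidHom.ext fun u => Units.ext ?_)⟩
    rw [hρ, Subgroup.coe_inv, inv_inv, ← hyg]
    have := congrFun hg u
    rw [hθ] at this
    exact this
  have hcop : ∀ f, ∃ n, ¬ q ∣ n ∧ ∀ a, ρ (a ^ n) f = f := by
    intro f
    obtain ⟨χ, θ, hθ, hnl, hχ⟩ := hover f
    obtain ⟨e, hdeg, -⟩ := Structure81.RelDegree.degree_data hU hUM χ θ hχ
    refine ⟨(inertia hU (θ : U → ℂ)).index, fun hq => hs.hyp.qdvd χ hnl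
      (hdeg ▸ dvd_mul_of_dvd_left (dvd_mul_of_dvd_right hq _) _), fun a => ?_⟩
    have hM : commutator N ≤ inertia hU (θ : U → ℂ) := fun m hm => mem_inertia.2 fun u => by
      rw [hθ]
      exact congrArg Units.val (hfixM f.1 m hm u)
    haveI := normal_of_commutator_le hM
    have ha := (inertia hU (θ : U → ℂ)).inv_mem
      (Subgroup.pow_index_mem (inertia hU (θ : U → ℂ)) (a : N))
    refine Subtype.ext (MonoidHom.ext fun u => Units.ext ?_)
    have := mem_inertia.1 ha u
    rw [hθ] at this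
    rw [hρ, Subgroup.coe_pow, hθ]
    exact this
  have hstab : ∀ a f, ρ a f = f → σH a = a := by
    intro a f h
    by_contra hne
    have hne' : σ (a : N)⁻¹ ≠ (a : N)⁻¹ := fun e =>
      hne (Subtype.ext (by rw [map_inv, inv_inj] at e; exact e))
    exact f.2 (hs.eq_one_of_fixed hU hUM (H.inv_mem a.2) hne' f.1 fun u =>
      DFunLike.congr_fun (congrArg Subtype.val h) u)
  obtain ⟨c, hc⟩ := exists_card_fixed ρ σH s heq hs.hyp.hq hσq ⟨n₀, hn₀H⟩ hsq horb hcop hstab
  let Φ : (U →* ℂˣ) → (U →* ℂˣ) := fun f =>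
    (f.comp σU.symm.toMonoidHom).comp (conjHom hU (c : N)⁻¹)
  let F : Subgroup (U →* ℂˣ) :=
    { carrier := {f | Φ f = f}
      one_mem' := rfl
      mul_mem' := fun {f g} hf hg => by
        show Φ f * Φ g = f * g
        rw [hf, hg]
      inv_mem' := fun {f} hf => by
        show (Φ f)⁻¹ = f⁻¹
        rw [hf] }
  refine ⟨F, ?_⟩
  have hcount : ∀ {X : Type u} [Finite X] (x₀ : X),
      (Nat.card {x : X // x ≠ x₀} : ℤ) = (Nat.card X : ℤ) - 1 := fun {X} _ x₀ => by
    haveI := Fintype.ofFinite X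
    rw [Nat.card_eq_fintype_card, Nat.card_eq_fintype_card, Fintype.card_subtype_compl,
      Fintype.card_subtype_eq, Nat.cast_sub (Fintype.card_pos_iff.2 ⟨x₀⟩)]
    simp
  have hΩF : Nat.card {x : Ω // ρ c (s x) = x} = Nat.card {x : F // x ≠ 1} :=
    Nat.card_congr
      { toFun := fun x => ⟨⟨x.1.1, congrArg Subtype.val x.2⟩, fun e =>
          x.1.2 (congrArg Subtype.val e)⟩
        invFun := fun x => ⟨⟨x.1.1, fun e => x.2 (Subtype.ext e)⟩, Subtype.ext x.1.2⟩
        left_inv := fun x => rfl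
        right_inv := fun x => rfl }
  rw [← hcount (1 : U →* ℂˣ), ← hcount (1 : F), ← hΩF]
  have hC : Nat.card {a : H // σ (a : N) = a} = Nat.card {a : H // σH a = a} :=
    Nat.card_congr (Equiv.subtypeEquivRight fun a => by rw [Subtype.ext_iff, hσH])
  rw [hC]
  exact_mod_cast hc

end Split

end CfsgLib.Antichain39
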