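import Cfsg.Agent.Lib.Antichain39.Classes
import Cfsg.Agent.Lib.Structure80.ThreePrimes
import Cfsg.Agent.Lib.Characters.Monomial
import Cfsg.Agent.Lib.TwoDegrees.Basic
import Cfsg.Agent.S4456
import Mathlib.GroupTheory.SchurZassenhaus

/-!
# An automorphism fixing an antichain of nonlinear characters: the split form
-/

set_option autoImplicit false
set_option linter.unusedSectionVars false
set_option linter.unusedFintypeInType false
set_option linter.style.haveILetI false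

namespace CfsgLib.Antichain39

open Cfsg CfsgLib.Characters CfsgLib.CharCorr
open scoped ComplexConjugate commutatorElement

universe u

variable {N : Type u} [Group N] [Fintype N]

/-- The standing hypotheses on an automorphism of a group whose nonlinear degrees form an
antichain. -/
structure Hyp (σ : MulAut N) (q r : ℕ) : Prop where
  hq : q.Prime
  hr : r.Prime
  hne : q ≠ r
  fix : ∀ χ : IrrCharacter N, charDegree (χ : N → ℂ) ≠ 1 → ∀ g, (χ : N → ℂ) (σ g) = (χ : N → ℂ) g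
  anti : ∀ χ ψ : IrrCharacter N, charDegree (χ : N → ℂ) ≠ 1 → charDegree (ψ : N → ℂ) ≠ 1 →
    charDegree (χ : N → ℂ) ∣ charDegree (ψ : N → ℂ) →
      charDegree (χ : N → ℂ) = charDegree (ψ : N → ℂ)
  rdvd : ∀ χ : IrrCharacter N, charDegree (χ : N → ℂ) ≠ 1 → r ∣ charDegree (χ : N → ℂ)
  qdvd : ∀ χ : IrrCharacter N, charDegree (χ : N → ℂ) ≠ 1 → ¬ q ∣ charDegree (χ : N → ℂ)
  pow : ∃ n₀, σ ^ q = MulAut.conj n₀
  moved : ∃ h : N, (∃ i, h ^ r ^ i = 1) ∧ σ h * h⁻¹ ∉ commutator N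

/-- All nonlinear degrees agree. -/
def OneDegree (N : Type u) [Group N] : Prop :=
  ∀ χ ψ : IrrCharacter N, charDegree (χ : N → ℂ) ≠ 1 → charDegree (ψ : N → ℂ) ≠ 1 →
    charDegree (χ : N → ℂ) = charDegree (ψ : N → ℂ)

theorem map_commutator_mem (σ : MulAut N) {x : N} (hx : x ∈ commutator N) :
    σ x ∈ commutator N := by
  have h := map_derivedSeries_le_derivedSeries σ.toMonoidHom 1
    ⟨x, by rw [SetLike.mem_coe, derivedSeries_one]; exact hx, rfl⟩
  rwa [derivedSeries_one] at h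

/-- Either all nonlinear degrees agree or the quotient by the normal `r`-complement is abelian. -/
theorem oneDegree_or_complement [Group.IsSolvable N] {σ : MulAut N} {q r : ℕ} (hh : Hyp σ q r) :
    OneDegree N ∨ ∃ L : Subgroup N, L.Normal ∧ (Nat.card L).Coprime r ∧
      (∃ k, L.index = r ^ k) ∧ commutator N ≤ L := by
  classical
  obtain ⟨L, hL, hcop, k, hk⟩ := Cfsg.Agent.S4456.result r hh.hr hh.rdvd
  haveI := hL
  haveI := Fintype.ofFinite L
  by_cases hab : ∀ a ∈ L, ∀ b ∈ L, a * b = b * a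
  · refine Or.inl fun χ ψ hχ hψ => ?_
    have key : ∀ φ : IrrCharacter N, ∃ i, charDegree (φ : N → ℂ) = r ^ i := fun φ => by
      obtain ⟨d, hd, hdvd⟩ := CharIto.degree_dvd_index_of_abelian_normal φ.2 L hL hab
      rw [irr_one_eq_charDegree, Nat.cast_inj] at hd
      rw [hk, Nat.dvd_prime_pow hh.hr] at hdvd
      obtain ⟨i, -, hi⟩ := hdvd
      exact ⟨i, hd.trans hi⟩
    obtain ⟨i, hi⟩ := key χ
    obtain ⟨j, hj⟩ := key ψ
    rcases le_total i j with h | h
    · exact hh.anti χ ψ hχ hψ (hi ▸ hj ▸ pow_dvd_pow r h)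
    · exact (hh.anti ψ χ hψ hχ (hi ▸ hj ▸ pow_dvd_pow r h)).symm
  refine Or.inr ⟨L, hL, hcop, ⟨k, hk⟩, ?_⟩
  obtain ⟨α, hα⟩ : ∃ α : IrrCharacter L, charDegree (α : L → ℂ) ≠ 1 := by
    by_contra hh'
    push Not at hh'
    exact hab fun a ha b hb =>
      congrArg Subtype.val (CfsgLib.ItoMichler.comm_of_degree_one hh' ⟨a, ha⟩ ⟨b, hb⟩)
  have hcop' : (Nat.card L).Coprime L.index := hk ▸ hcop.pow_right k
  obtain ⟨K, hK⟩ := Subgroup.exists_right_complement'_of_coprime hcop'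
  have hd : L ⊓ K = ⊥ := hK.disjoint.eq_bot
  obtain ⟨π, hπ, hπL⟩ := Palfy80.exists_retraction L K hd (by rw [sup_comm]; exact hK.sup_eq_top)
  set T := Clifford.inertia hL (α : L → ℂ) with hT
  have hLT : L ≤ T := Clifford.le_inertia hL (irr_isClassFunction α)
  obtain ⟨χ₀, hχ₀⟩ := Palfy80.exists_ext_coprime L α T hT hLT hcop'
  set t := (T.subgroupOf K).index
  have ht0 : 0 < t := Nat.pos_of_ne_zero Subgroup.index_ne_zero_of_finite
  have hα1 : 1 < charDegree (α : L → ℂ) := by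
    have := charDegree_irr_pos α
    omega
  have hover : ∀ β : IrrCharacter (T.subgroupOf K), ∃ χ : IrrCharacter N,
      charDegree (χ : N → ℂ) = t * charDegree (β : T.subgroupOf K → ℂ) * charDegree (α : L → ℂ) :=
    fun β => Palfy80.exists_degree_over L K π hd hπ hπL α T hT hLT χ₀ hχ₀ β
  obtain ⟨χ₁, hχ₁⟩ := hover (linearIrr 1)
  have hlin : charDegree (linearIrr (1 : T.subgroupOf K →* ℂˣ) : T.subgroupOf K → ℂ) = 1 :=
    LinearTwist.charDegree_eq_of_apply_one (by simp [linearIrr])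
  rw [hlin, mul_one] at hχ₁
  have hne1 : charDegree (χ₁ : N → ℂ) ≠ 1 := by
    rw [hχ₁]
    intro e
    have := Nat.eq_one_of_mul_eq_one_left e
    omega
  have hTab : ∀ β : IrrCharacter (T.subgroupOf K), charDegree (β : T.subgroupOf K → ℂ) = 1 := by
    intro β
    obtain ⟨χ, hχ⟩ := hover β
    have hb := charDegree_irr_pos β
    have hχne : charDegree (χ : N → ℂ) ≠ 1 := by
      rw [hχ]
      intro e
      have := Nat.eq_one_of_mul_eq_one_left e
      omega
    have he := hh.anti χ₁ χ hne1 hχne ⟨charDegree (β : T.subgroupOf K → ℂ), by rw [hχ, hχ₁]; ring⟩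
    rw [hχ₁, hχ] at he
    have := Nat.eq_of_mul_eq_mul_right (show 0 < charDegree (α : L → ℂ) by omega) he
    exact (Nat.eq_of_mul_eq_mul_left ht0 ((mul_one t).trans this)).symm
  haveI := Fintype.ofFinite (T.subgroupOf K)
  haveI := Fintype.ofFinite K
  have hKab : ∀ a b : K, a * b = b * a := by
    refine CfsgLib.ItoMichler.comm_of_degree_one fun η => ?_
    by_contra hη
    have hle : charDegree (η : K → ℂ) ≤ t := TwoDegrees.deg_le_index _
      (fun a ha b hb => congrArg Subtype.val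
        (CfsgLib.ItoMichler.comm_of_degree_one hTab ⟨a, ha⟩ ⟨b, hb⟩)) η
    have hKcard : Nat.card K = r ^ k := by
      rw [← hk, Palfy80.index_eq_card_of_retraction L K π hd hπ hπL]
    obtain ⟨i, -, hi⟩ := (Nat.dvd_prime_pow hh.hr).1 (hKcard ▸ charDegree_irr_dvd_card η)
    obtain ⟨j, -, hj⟩ := (Nat.dvd_prime_pow hh.hr).1
      (hKcard ▸ Subgroup.index_dvd_card (T.subgroupOf K))
    have hij : i ≤ j := (Nat.pow_le_pow_iff_right hh.hr.one_lt).1 (by rw [← hi, ← hj]; exact hle)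
    set χ₂ : IrrCharacter N :=
      ⟨_, Clifford.isIrrCharacter_pullback η.2 π fun x => ⟨x, hπ x⟩⟩
    have hχ₂ : charDegree (χ₂ : N → ℂ) = charDegree (η : K → ℂ) :=
      LinearTwist.charDegree_eq_of_apply_one (by
        show (η : K → ℂ) (π 1) = _
        rw [map_one, irr_one_eq_charDegree])
    have he := hh.anti χ₂ χ₁ (hχ₂ ▸ hη) hne1
      (by rw [hχ₂, hχ₁, hi, show t = r ^ j from hj]; exact dvd_mul_of_dvd_left (pow_dvd_pow r hij) _)
    rw [hχ₂, hχ₁] at he
    have : t * 1 < t * charDegree (α : L → ℂ) := Nat.mul_lt_mul_of_pos_left hα1 ht0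
    omega
  rw [commutator_def, Subgroup.commutator_le]
  intro a _ b _
  have h1 : π ⁅a, b⁆ = 1 := by
    rw [map_commutatorElement]
    exact commutatorElement_eq_one_iff_mul_comm.2 (hKab _ _)
  have h2 := hπL ⁅a, b⁆
  rwa [h1, Subgroup.coe_one, inv_one, mul_one] at h2

/-- The split form: the derived subgroup has an abelian invariant complement on which the moved
elements are fixed point free. -/
structure Split (σ : MulAut N) (q r : ℕ) (H : Subgroup N) : Prop where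
  hyp : Hyp σ q r
  map_mem : ∀ y ∈ H, σ y ∈ H
  comm : ∀ a ∈ H, ∀ b ∈ H, a * b = b * a
  inf : commutator N ⊓ H = ⊥
  sup : H ⊔ commutator N = ⊤
  fpf : ∀ y ∈ H, σ y ≠ y → ∀ m ∈ commutator N, y * m = m * y → m = 1
  exists_moved : ∃ h ∈ H, σ h ≠ h ∧ σ (h⁻¹ * σ h) ≠ h⁻¹ * σ h
  pow_mem : ∃ n₀ ∈ H, σ ^ q = MulAut.conj n₀

theorem exists_conj_mul_pow (σ : MulAut N) (n : N) (i : ℕ) :
    ∃ m, (MulAut.conj n * σ) ^ i = MulAut.conj m * σ ^ i := by
  induction i with
  | zero => exact ⟨1, by simp⟩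
  | succ i ih =>
    obtain ⟨m, hm⟩ := ih
    refine ⟨n * σ m, ?_⟩
    rw [pow_succ', hm, pow_succ' σ, map_mul]
    refine MulEquiv.ext fun x => ?_
    simp [MulAut.mul_apply, mul_assoc]

/-- Passing to the split form by an inner automorphism. -/
theorem exists_split {σ : MulAut N} {q r : ℕ} (hh : Hyp σ q r) (L : Subgroup N) [L.Normal]
    (hcop : (Nat.card L).Coprime r) (hML : commutator N ≤ L) :
    ∃ (n : N) (H : Subgroup N), Split (MulAut.conj n * σ) q r H := by
  classical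
  haveI := Fact.mk hh.hr
  obtain ⟨h, ⟨i₀, hi₀⟩, hmv⟩ := hh.moved
  set M := commutator N with hM
  have hMn : M.Normal := inferInstance
  have hzp : IsPGroup r (Subgroup.zpowers h) := by
    intro x
    refine ⟨i₀, Subtype.ext ?_⟩
    obtain ⟨j, hj⟩ := Subgroup.mem_zpowers_iff.1 x.2
    rw [SubgroupClass.coe_pow, ← hj, ← zpow_natCast, ← zpow_mul, mul_comm, zpow_mul,
      zpow_natCast, hi₀, one_zpow, Subgroup.coe_one]
  obtain ⟨R, hR⟩ := hzp.exists_le_sylow
  have hhR : h ∈ (R : Subgroup N) := hR (Subgroup.mem_zpowers h)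
  have hLR : L ⊓ (R : Subgroup N) = ⊥ := by
    obtain ⟨a, ha⟩ := IsPGroup.iff_card.1 R.isPGroup'
    exact Subgroup.inf_eq_bot_of_coprime (ha ▸ hcop.pow_right a)
  have hRab : ∀ a ∈ (R : Subgroup N), ∀ b ∈ (R : Subgroup N), a * b = b * a := by
    intro a ha b hb
    refine commutatorElement_eq_one_iff_mul_comm.1 (Subgroup.mem_bot.1 (hLR.le ⟨hML
      (Subgroup.commutator_mem_commutator (Subgroup.mem_top a) (Subgroup.mem_top b)), ?_⟩))
    rw [commutatorElement_def]
    exact (R : Subgroup N).mul_mem ((R : Subgroup N).mul_mem ((R : Subgroup N).mul_mem ha hb)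
      ((R : Subgroup N).inv_mem ha)) ((R : Subgroup N).inv_mem hb)
  -- the centralizer
  set C := Subgroup.centralizer ({h} : Set N) with hC
  have hcard : ∀ {g : N}, σ g * g⁻¹ ∉ M →
      Nat.card (Subgroup.centralizer ({g} : Set N)) = M.index := fun {g} hg =>
    card_centralizer_of_coset fun z hz => isConj_of_moved hg (fun χ hχ => hh.fix χ hχ g) hz
  obtain ⟨hinf, hsup⟩ : M ⊓ C = ⊥ ∧ C ⊔ M = ⊤ := complement_of_card hi₀ (hcard hmv) fun hd => hh.hr.one_lt.ne'
    (Nat.eq_one_of_dvd_coprimes hcop (hd.trans (Subgroup.card_dvd_of_le hML)) dvd_rfl)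
  have hCab : ∀ a ∈ C, ∀ b ∈ C, a * b = b * a := fun a ha b hb => by
    refine commutatorElement_eq_one_iff_mul_comm.1 (Subgroup.mem_bot.1 (hinf.le
      ⟨Subgroup.commutator_mem_commutator (Subgroup.mem_top a) (Subgroup.mem_top b), ?_⟩))
    rw [commutatorElement_def]
    exact C.mul_mem (C.mul_mem (C.mul_mem ha hb) (C.inv_mem ha)) (C.inv_mem hb)
  -- normalise
  obtain ⟨n, hn⟩ := MulAction.exists_smul_eq N
    (R.mapSurjective (f := σ.toMonoidHom) σ.surjective) R
  set σ' := MulAut.conj n * σ with hσ'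
  have hσ'R : ∀ x ∈ (R : Subgroup N), σ' x ∈ (R : Subgroup N) := by
    intro x hx
    rw [← hn]
    exact Subgroup.smul_mem_pointwise_smul (σ x) (MulAut.conj n) _ ⟨x, hx, rfl⟩
  have hcong : ∀ g, σ' g * g⁻¹ ∈ M ↔ σ g * g⁻¹ ∈ M := fun g => by
    have h1 : ⁅n, σ g⁆ ∈ M :=
      Subgroup.commutator_mem_commutator (Subgroup.mem_top _) (Subgroup.mem_top _)
    have e : σ' g * g⁻¹ = ⁅n, σ g⁆ * (σ g * g⁻¹) := by
      show n * σ g * n⁻¹ * g⁻¹ = _
      rw [commutatorElement_def]; group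
    rw [e, M.mul_mem_cancel_left h1]
  have hfix' : ∀ χ : IrrCharacter N, charDegree (χ : N → ℂ) ≠ 1 →
      ∀ g, (χ : N → ℂ) (σ' g) = (χ : N → ℂ) g := fun χ hχ g =>
    (irr_isClassFunction χ (σ g) n).trans (hh.fix χ hχ g)
  obtain ⟨n₀, hn₀⟩ := hh.pow
  obtain ⟨m₀, hm₀⟩ := exists_conj_mul_pow σ n q
  have hpow' : σ' ^ q = MulAut.conj (m₀ * n₀) := by rw [hσ', hm₀, hn₀, map_mul]
  have hmvM : σ' h * h⁻¹ ∉ M := fun e => hmv ((hcong h).1 e)
  have hh'R : σ' h ∈ (R : Subgroup N) := hσ'R h hhR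
  have hcard' : ∀ {g : N}, σ' g * g⁻¹ ∉ M →
      Nat.card (Subgroup.centralizer ({g} : Set N)) = M.index := fun {g} hg =>
    hcard fun e => hg ((hcong g).2 e)
  have hCeq : ∀ {g : N}, g ∈ C → σ' g * g⁻¹ ∉ M →
      Subgroup.centralizer ({g} : Set N) = C := fun {g} hg hgm =>
    (Subgroup.eq_of_le_of_card_ge
      (fun c hc => Subgroup.mem_centralizer_singleton_iff.2 (hCab c hc g hg))
      (by rw [hcard' hgm, hC, hcard hmv])).symm
  have hhC : h ∈ C := Subgroup.mem_centralizer_singleton_iff.2 rfl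
  have hh'C : σ' h ∈ C := Subgroup.mem_centralizer_singleton_iff.2 (hRab _ hh'R h hhR)
  have hh'm : σ' (σ' h) * (σ' h)⁻¹ ∉ M := fun e => hmvM (by
    have h2 := map_commutator_mem σ'.symm (x := σ' (σ' h) * (σ' h)⁻¹) e
    rwa [map_mul, map_inv, MulEquiv.symm_apply_apply, MulEquiv.symm_apply_apply] at h2)
  have hmap : ∀ y ∈ C, σ' y ∈ C := by
    intro y hy
    rw [← hCeq hh'C hh'm, Subgroup.mem_centralizer_singleton_iff, ← map_mul, ← map_mul,
      Subgroup.mem_centralizer_singleton_iff.1 hy]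
  have hfpf : ∀ y ∈ C, σ' y ≠ y → ∀ m ∈ M, y * m = m * y → m = 1 := by
    intro y hy hne m hm hcom
    have hym : σ' y * y⁻¹ ∉ M := fun e => hne (mul_inv_eq_one.1 (Subgroup.mem_bot.1
      (hinf.le ⟨e, C.mul_mem (hmap y hy) (C.inv_mem hy)⟩)))
    refine Subgroup.mem_bot.1 (hinf.le ⟨hm, ?_⟩)
    rw [← hCeq hy hym]
    exact Subgroup.mem_centralizer_singleton_iff.2 hcom.symm
  -- the power lies in the complement
  have hpowC : m₀ * n₀ ∈ C := by
    obtain ⟨c, hc, m, hm, hcm⟩ :=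
      Subgroup.mem_sup_of_normal_right.1 (show m₀ * n₀ ∈ C ⊔ M by rw [hsup]; trivial)
    have hq' : ∀ i : ℕ, (σ' ^ i) h ∈ C := fun i => by
      induction i with
      | zero => simpa using hhC
      | succ i ih => rw [pow_succ', MulAut.mul_apply]; exact hmap _ ih
    have h1 := hq' q
    rw [hpow', MulAut.conj_apply, ← hcm] at h1
    have h2 : m * h * m⁻¹ ∈ C := by
      have := C.mul_mem (C.mul_mem (C.inv_mem hc) h1) hc
      rwa [show c⁻¹ * (c * m * h * (c * m)⁻¹) * c = m * h * m⁻¹ by group] at this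
    have h3 : ⁅m, h⁆ = 1 := Subgroup.mem_bot.1 (hinf.le
      ⟨Subgroup.commutator_mem_commutator (Subgroup.mem_top _) (Subgroup.mem_top _), by
        rw [commutatorElement_def]; exact C.mul_mem h2 (C.inv_mem hhC)⟩)
    have h4 := hfpf h hhC (fun e => hmvM (by rw [e, mul_inv_cancel]; exact M.one_mem)) m hm
      (commutatorElement_eq_one_iff_mul_comm.1 h3).symm
    rw [← hcm, h4, mul_one]
    exact hc
  refine ⟨n, C, ⟨⟨hh.hq, hh.hr, hh.hne, hfix', hh.anti, hh.rdvd, hh.qdvd, ⟨_, hpow'⟩,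
    ⟨h, ⟨i₀, hi₀⟩, hmvM⟩⟩, hmap, hCab, hinf, hsup, hfpf, ⟨h, hhC,
      fun e => hmvM (by rw [e, mul_inv_cancel]; exact M.one_mem), ?_⟩, ⟨_, hpowC, hpow'⟩⟩⟩
  intro hz
  set z := h⁻¹ * σ' h with hzdef
  have hit : ∀ i : ℕ, (σ' ^ i) h = h * z ^ i := by
    intro i
    induction i with
    | zero => simp
    | succ i ih =>
      rw [pow_succ' σ', MulAut.mul_apply, ih, map_mul, map_pow, hz, pow_succ' z,
        show σ' h = h * z from (mul_inv_cancel_left h (σ' h)).symm, mul_assoc]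
  have hzq : z ^ q = 1 := by
    have h1 := hit q
    rw [hpow', MulAut.conj_apply, hCab _ hpowC h hhC, mul_inv_cancel_right] at h1
    exact left_eq_mul.1 h1
  have hzr : z ^ r ^ i₀ = 1 := by
    rw [hzdef, Commute.mul_pow (hCab _ (C.inv_mem hhC) _ hh'C), inv_pow, hi₀, ← map_pow, hi₀]
    simp
  have hz1 : z = 1 := by
    rw [← orderOf_eq_one_iff]
    exact Nat.eq_one_of_dvd_coprimes
      (Nat.Coprime.pow_right i₀ ((Nat.coprime_primes hh.hq hh.hr).2 hh.hne))
      (orderOf_dvd_of_pow_eq_one hzq) (orderOf_dvd_of_pow_eq_one hzr)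
  exact hmvM (by
    rw [← (inv_mul_eq_one.1 hz1), mul_inv_cancel]
    exact M.one_mem)

end CfsgLib.Antichain39
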